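import Cfsg.Agent.Lib.Char.QuatBlock.Shape
import Cfsg.Agent.Lib.Char.DihedralBlock.CentralInvolution

/-!
# Characters minus rank when the involution of the quaternion defect group is central

The involution separates the characters: the class where it acts trivially is the block of the quotient, with dihedral
defect group, and the trace over the other class counts the rank.
-/

set_option autoImplicit false
set_option linter.unusedSectionVars false
set_option linter.style.haveILetI false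

namespace Cfsg.Agent.Char.QuatBlock

open Cfsg
open scoped ComplexConjugate

universe u v

section Shift

variable {K : Type u} [Group K] [Fintype K]

/-- A character with a scalar value at a central involution is shifted by it. -/
theorem central_shift {X : K → ℂ} (hX : IsCharacter K X) {z : K} (hz : orderOf z = 2) (hzc : ∀ c, z * c = c * z)
    {s : ℂ} (hs : s = 1 ∨ s = -1) (hval : X z = s * X 1) (c : K) : X (z * c) = s * X c := by
  classical
  obtain ⟨m, hm⟩ := exists_decomposition hX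
  choose ζ hζN hζ using fun η : IrrCharacter K => exists_central_root hzc η
  have hζ2 : ∀ η, ζ η = 1 ∨ ζ η = -1 := fun η => by
    have := hζN η
    rw [hz] at this
    exact sq_eq_one_iff.mp this
  have hv : ∀ y, X y = ∑ η : IrrCharacter K, (m η : ℂ) * (η : K → ℂ) y := fun y => by
    rw [hm, Finset.sum_apply]
    exact Finset.sum_congr rfl fun η _ => by rw [Pi.smul_apply, nsmul_eq_mul]
  have h0 : ∑ η : IrrCharacter K, ((if ζ η = s then 0 else m η * deg (η : K → ℂ) : ℕ) : ℂ) = 0 := by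
    have h1 : X (z * 1) - s * X 1 = 0 := by rw [mul_one, hval, sub_self]
    rw [hv, hv, Finset.mul_sum, ← Finset.sum_sub_distrib] at h1
    rw [← mul_right_inj' (show (-2 * s) ≠ 0 by rcases hs with rfl | rfl <;> norm_num), mul_zero, ← h1, Finset.mul_sum]
    refine Finset.sum_congr rfl fun η _ => ?_
    rw [hζ, char_one_eq_deg (irr_isCharacter η.2)]
    by_cases e : ζ η = s
    · rw [if_pos e, e]; push_cast; ring
    · rw [if_neg e]
      rcases hs with rfl | rfl <;> rcases hζ2 η with e' | e' <;> rw [e'] at e ⊢ <;>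
        first | exact absurd rfl e | (push_cast; ring)
  rw [← Nat.cast_sum, Nat.cast_eq_zero, Finset.sum_eq_zero_iff] at h0
  rw [hv, hv, Finset.mul_sum]
  refine Finset.sum_congr rfl fun η _ => ?_
  rw [hζ]
  by_cases e : ζ η = s
  · rw [e]; ring
  · have h := h0 η (Finset.mem_univ _)
    rw [if_neg e] at h
    rw [(Nat.mul_eq_zero.mp h).resolve_right (deg_pos η.2).ne']
    simp

end Shift

variable {G : Type u} [Group G] [Fintype G] {M : Ideal AlgInt} {B : Set (IrrCharacter G)}

open scoped Classical in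
set_option maxHeartbeats 1000000 in
/-- Characters minus rank with a central involution. -/
theorem central_gap (hM : IsPModular 2 M) (hB : IsPBlock M B) {D : Subgroup G} (hD : IsDefectGroup 2 M B D)
    {A : Type v} [Group A] [Fintype A] {e : ℕ} (F : AxisFamily A e) (ι : A ≃* D) {z : G} (hz2 : orderOf z = 2) (hzc : ∀ g, z * g = g * z) :
    (Nat.card B : ℤ) = blockRank 2 B + 2 ^ (e + 1) + 2 := by
  haveI : Fact (Nat.Prime 2) := ⟨Nat.prime_two⟩
  have hP := pmod_prime hM
  obtain ⟨u, hu⟩ := exists_qb hM hB hD F ι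
  haveI : Fintype (axis u) := Fintype.ofFinite _
  obtain ⟨Q⟩ := hu
  have hS := Q.shape
  -- the scalars of the involution
  obtain ⟨ω, hω⟩ : ∃ ω : ℂ, IsPrimitiveRoot ω (2 ^ 1) :=
    ⟨_, Complex.isPrimitiveRoot_exp _ (pow_ne_zero 1 two_ne_zero)⟩
  have hω1 : ω = -1 := IsPrimitiveRoot.eq_neg_one_of_two_right (by simpa using hω)
  choose c hcN hc using fun η : IrrCharacter G => exists_central_root hzc η
  have hex : ∀ η : IrrCharacter G, ∃ i < 2 ^ 1, ω ^ i = c η := fun η => hω.eq_pow_of_pow_eq_one (by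
    rw [pow_one, ← hz2]
    exact hcN η)
  choose j hj hjc using hex
  have hz : ∀ (η : IrrCharacter G) (w : G), (η : G → ℂ) (z * w) = ω ^ j η * (η : G → ℂ) w := fun η w => by
    rw [hjc]; exact hc η w
  have hza : orderOf z = 2 ^ 1 := by rw [pow_one, hz2]
  -- the involution in the local group
  have hzH : z ∈ axis u := by rw [mem_axis]; exact Or.inl (by rw [hzc, mul_inv_cancel_right])
  set zH : axis u := ⟨z, hzH⟩ with hzHd
  have hzH2 : orderOf zH = 2 := by rw [hzHd, Subgroup.orderOf_mk, hz2]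
  have hzHc : ∀ w : axis u, zH * w = w * zH := fun w => Subtype.ext (hzc _)
  have hdm : Q.S.d Q.F.c = zH := by
    obtain ⟨y, hy⟩ := Q.S.exists_d (DihBlock.mem_defect_of_central hM Q.S.hf Q.S.hP hzH2 hzHc)
    rw [← Q.F.invol y (by rw [← Q.S.orderOf_d, hy, hzH2]) fun w => Q.S.d_injective (by
      rw [Q.S.d_mul, Q.S.d_mul, hy]; exact hzHc _), hy]
  obtain ⟨σ, hσN, hσ⟩ := exists_central_root hzHc Q.S.ψ
  have hσ2 : σ = 1 ∨ σ = -1 := by rw [hzH2] at hσN; exact sq_eq_one_iff.mp hσN
  have hppz : ppt 2 zH = zH := by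
    have := ppt_mul Nat.prime_two (x := zH) (y := 1) (by simp) ⟨1, by rw [hzH2, pow_one]⟩ (by simp)
    rwa [mul_one] at this
  have hpar : ∀ (k : ℕ) (χ : IrrCharacter G), Q.cn k χ ≠ 0 → ω ^ j χ = σ * (-1) ^ k := by
    intro k χ hne
    set μ := Q.F.ch k
    have hμ : IsClassFunction A μ := isClassFunction_character (Q.F.ch_char k)
    set s : ℂ := σ * (-1) ^ k with hs
    have hs' : s = 1 ∨ s = -1 := by
      rcases neg_one_pow_eq_or ℂ k with h | h <;> rcases hσ2 with h' | h' <;> simp [hs, h, h']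
    have hval : Q.S.th μ zH = s * Q.S.th μ 1 := by
      have hz1 := hσ 1
      rw [mul_one] at hz1
      rw [Q.S.th_const hμ (c := 2 * (-1) ^ k) fun w y hy => ?_, Q.S.th_one hμ, show μ 1 = 2 from Q.F.ch_one k, hz1, hs]
      · ring
      · rw [hppz, ← hzHc w, mul_inv_cancel_right, ← hdm] at hy
        rw [← Q.S.d_injective hy]
        exact Q.F.ch_c k
    have hshift : ∀ w, Q.S.th μ (zH * w) = s * Q.S.th μ w :=
      central_shift (Q.S.th_character (Q.F.ch_char k)) hzH2 hzHc hs' hval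
    have hv : Q.S.v μ χ = s * conj (ω ^ j χ) * Q.S.v μ χ := by
      conv_lhs => rw [LocalNil.v, classInner, ← Equiv.sum_comp (Equiv.mulLeft zH)]
      simp only [Equiv.coe_mulLeft, hshift]
      rw [LocalNil.v, classInner]
      simp only [Finset.mul_sum]
      refine Finset.sum_congr rfl fun w _ => ?_
      rw [show ((zH * w : axis u) : G) = z * (w : G) from rfl, hz, map_mul]
      ring
    have hv0 : Q.S.v μ χ ≠ 0 := by rw [Q.cn_spec]; exact_mod_cast hne
    have h1 : s * conj (ω ^ j χ) = 1 := mul_right_cancel₀ hv0 (by rw [one_mul]; exact hv.symm)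
    rcases neg_one_pow_eq_or ℂ (j χ) with h | h <;> rcases hs' with h' | h' <;>
      rw [hω1, h] at h1 ⊢ <;> rw [h'] at h1 ⊢ <;> first | (norm_num at h1 ⊢; done) | norm_num at h1 | norm_num
  have hpe : ∀ χ, Q.wv χ ≠ 0 ∨ (∃ i, Q.uv i χ ≠ 0) → ω ^ j χ = σ := by
    intro χ hχ
    obtain ⟨k, hk, hne⟩ : ∃ k, Even k ∧ Q.cn k χ ≠ 0 := by
      by_contra h
      push Not at h
      have hm : Q.cn (2 ^ (e + 1)) χ = 0 := h _ (by rw [pow_succ]; exact even_two.mul_left _)
      rcases hχ with hχ | ⟨i, hχ⟩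
      · exact hχ (by rw [QB.wv, h 0 Even.zero, hm, sub_self])
      · exact hχ (by rw [QB.uv, h 0 Even.zero, h _ (even_two_mul _), sub_self])
    rw [hpar k χ hne, hk.neg_one_pow, mul_one]
  have hpo : ∀ χ i, Q.ov i χ ≠ 0 → ω ^ j χ = -σ := by
    intro χ i hne
    obtain ⟨k, hk, hne⟩ : ∃ k, Odd k ∧ Q.cn k χ ≠ 0 := by
      by_contra h
      push Not at h
      exact hne (by rw [QB.ov, h _ (odd_two_mul_add_one _), h 1 odd_one, sub_self])
    rw [hpar k χ hne, hk.neg_one_pow, mul_neg, mul_one]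
  -- the quotient
  set Z := Subgroup.zpowers z with hZd
  haveI : Z.Normal := ⟨fun w hw g => by
    obtain ⟨i, rfl⟩ := hw
    rw [← (Commute.zpow_left (hzc g) i).eq, mul_inv_cancel_right]
    exact Subgroup.zpow_mem_zpowers _ _⟩
  have hZp : IsPGroup 2 Z := IsPGroup.of_card (n := 1) (by rw [Nat.card_zpowers, hz2, pow_one])
  haveI : Fintype (G ⧸ Z) := Fintype.ofFinite _
  obtain ⟨Bb, hBb, hsub, hdef⟩ := exists_quotient_block_defect hM hZp hB
  set π := QuotientGroup.mk' Z with hπd
  have hDb : IsDefectGroup 2 M Bb (D.map π) := hdef D hD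
  have hzD := DihBlock.mem_defect_of_central hM hB hD hz2 hzc
  have hιm : ι.symm ⟨z, hzD⟩ = F.c := F.invol _ (by rw [MulEquiv.orderOf_eq, Subgroup.orderOf_mk, hz2]) fun w => by
    refine ι.injective ?_
    rw [map_mul, map_mul, MulEquiv.apply_symm_apply]
    exact Subtype.ext (hzc _)
  set ψh : A →* G ⧸ Z := π.comp (D.subtype.comp ι.toMonoidHom) with hψh
  have hrange : ψh.range = D.map π := by
    rw [hψh, MonoidHom.range_comp, MonoidHom.range_comp, MonoidHom.range_eq_top.mpr ι.surjective,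
      ← MonoidHom.range_eq_map, Subgroup.range_subtype]
  have hker : ψh.ker = F.proj.ker := by
    ext y
    rw [MonoidHom.mem_ker, MonoidHom.mem_ker, F.proj_ker]
    show π ((ι y : D) : G) = 1 ↔ _
    rw [hπd, QuotientGroup.mk'_apply, QuotientGroup.eq_one_iff]
    constructor
    · intro h
      obtain ⟨i, hi⟩ := Subgroup.mem_zpowers_iff.mp h
      have he : ι y = (⟨z, hzD⟩ : D) ^ i := Subtype.ext (by rw [SubgroupClass.coe_zpow]; exact hi.symm)
      have hy : y = F.c ^ i := by
        rw [← hιm, ← map_zpow, ← he, MulEquiv.symm_apply_apply]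
      have hm2 : (F.c : A) ^ (2 : ℤ) = 1 := by
        rw [zpow_two, ← sq, ← F.orderOf_c, pow_orderOf_eq_one]
      rcases Int.even_or_odd i with ⟨t, ht⟩ | ⟨t, ht⟩
      · left; rw [hy, ht, ← two_mul, zpow_mul, hm2, one_zpow]
      · right; rw [hy, ht, zpow_add, zpow_mul, hm2, one_zpow, one_mul, zpow_one]
    · rintro (rfl | rfl)
      · simp
      · rw [← hιm, MulEquiv.apply_symm_apply]
        exact Subgroup.mem_zpowers z
  let ιb : D.map π ≃* DihedralGroup (2 ^ (e + 1)) :=
    (MulEquiv.subgroupCongr hrange.symm).trans ((QuotientGroup.quotientKerEquivRange ψh).symm.trans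
      ((QuotientGroup.quotientMulEquivOfEq hker).trans
        (QuotientGroup.quotientKerEquivOfSurjective _ F.proj_surj)))
  have hdb : blockDefect 2 Bb = e + 2 := by
    refine Nat.pow_right_injective le_rfl ?_
    show 2 ^ blockDefect 2 Bb = 2 ^ (e + 2)
    rw [← card_defectGroup hM hBb hDb, Nat.card_congr ιb.toEquiv, DihedralGroup.nat_card, pow_succ' 2 (e + 1)]
  have hcls := SubForm.cls_eq_image hM hB hzc hza hω hj hz hZd hBb hsub
  have hht : ∀ χ ∈ Bb, blockHeight 2 B ((inflChar Z χ : IrrCharacter G) : G → ℂ) =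
      blockHeight 2 Bb (χ : G ⧸ Z → ℂ) := by
    intro χ hχ
    have h1 := dmin_add_defect (p := 2) (block_nonempty hP hB)
    have h2 := dmin_add_defect (p := 2) (block_nonempty hP hBb)
    have h3 : (Nat.card G).factorization 2 = (Nat.card (G ⧸ Z)).factorization 2 + 1 := by
      rw [Subgroup.card_eq_card_quotient_mul_card_subgroup Z,
        Nat.factorization_mul Nat.card_pos.ne' Nat.card_pos.ne', Finsupp.add_apply, Nat.card_zpowers, hz2,
        Nat.prime_two.factorization_self]
    rw [Q.defect] at h1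
    rw [hdb] at h2
    rw [blockHeight_eq, blockHeight_eq]
    have : dexp 2 ((inflChar Z χ : IrrCharacter G) : G → ℂ) = dexp 2 (χ : G ⧸ Z → ℂ) := by
      show (charDegree ((inflChar Z χ : IrrCharacter G) : G → ℂ)).factorization 2 =
        (charDegree (χ : G ⧸ Z → ℂ)).factorization 2
      congr 1
    omega
  have hσ1 : σ = 1 := by
    obtain ⟨χ, hχ, h0⟩ := exists_height_zero (p := 2) (block_nonempty hP hBb)
    have hm := SubForm.infl_mem_cls hM hB hzc hza hω hj hz hZd hBb hsub hχ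
    obtain ⟨hmB, hm0⟩ := CentralClass.mem_cls.mp hm
    have hw : Q.wv (inflChar Z χ) ≠ 0 := fun h => Q.height_ne_zero hmB h (by rw [hht χ hχ, h0])
    rw [← hpe _ (Or.inl hw), hm0, pow_zero]
  subst hσ1
  have hj0 : ∀ χ, ω ^ j χ = 1 → j χ = 0 := fun χ h => hω.pow_inj (hj χ) (by norm_num) (by rw [h, pow_zero])
  have hj1 : ∀ χ, ω ^ j χ = -1 → j χ = 1 := fun χ h => hω.pow_inj (hj χ) (by norm_num) (by rw [h, pow_one, hω1])
  -- the quotient block
  have hbb : ∀ χ ∈ bset Bb, blockHeight 2 Bb (χ : G ⧸ Z → ℂ) ≤ (if e = 0 then 0 else 1) := by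
    intro χ hχ
    split_ifs with he
    · exact le_of_eq (KleinBlock.height_zero hM hBb (by rw [hdb, he]) (mem_bset.mp hχ))
    · have := (DihBlock.invariants hM hBb hDb (n := e + 2) (by omega) ⟨ιb⟩).2.2.2.2 χ (mem_bset.mp hχ)
      exact this
  have hz1 : ∀ r ∈ Q.zs, j r = 1 := by
    intro r hr
    have := hj r
    by_contra hne
    have h0 : j r = 0 := by omega
    have hm : r ∈ CentralClass.cls B j 0 := CentralClass.mem_cls.mpr ⟨(Q.mem_zs.mp hr).1, h0⟩
    rw [hcls, Finset.mem_image] at hm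
    obtain ⟨χ, hχ, rfl⟩ := hm
    have h1 := hbb χ hχ
    rw [← hht χ (mem_bset.mp hχ), (Q.row_zs hr).1] at h1
    split_ifs at h1 <;> omega
  have hx0 : ∀ χ ∈ Q.xs, j χ = 0 := fun χ h => hj0 χ (hpe χ (Or.inl (Q.mem_xs.mp h).2))
  have hu0 : ∀ χ ∈ Q.us, j χ = 0 := fun χ h => hj0 χ (hpe χ (Or.inr (Q.mem_us.mp h).2.2))
  have ho1 : ∀ χ ∈ Q.os, j χ = 1 := fun χ h => by
    obtain ⟨-, -, i, hi⟩ := Q.mem_os.mp h
    exact hj1 χ (hpo χ i hi)
  have hdecomp : ∀ χ ∈ B, χ ∈ Q.xs ∨ χ ∈ Q.us ∨ χ ∈ Q.os ∨ χ ∈ Q.zs := by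
    intro χ hχ
    by_cases hw : Q.wv χ = 0
    · by_cases h1 : ∃ i, Q.uv i χ ≠ 0
      · exact Or.inr (Or.inl (Q.mem_us.mpr ⟨hχ, hw, h1⟩))
      · by_cases h2 : ∃ i, Q.ov i χ ≠ 0
        · exact Or.inr (Or.inr (Or.inl (Q.mem_os.mpr ⟨hχ, hw, h2⟩)))
        · push Not at h1 h2
          exact Or.inr (Or.inr (Or.inr (Q.mem_zs.mpr ⟨hχ, hw, h1, h2⟩)))
    · exact Or.inl (Q.mem_xs.mpr ⟨hχ, hw⟩)
  have hc0 : CentralClass.cls B j 0 = Q.xs ∪ Q.us := by
    ext χ
    rw [CentralClass.mem_cls, Finset.mem_union]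
    constructor
    · rintro ⟨hχ, h0⟩
      rcases hdecomp χ hχ with h | h | h | h
      · exact Or.inl h
      · exact Or.inr h
      · rw [ho1 χ h] at h0; omega
      · rw [hz1 χ h] at h0; omega
    · rintro (h | h)
      · exact ⟨(Q.mem_xs.mp h).1, hx0 χ h⟩
      · exact ⟨(Q.mem_us.mp h).1, hu0 χ h⟩
  have hc1 : CentralClass.cls B j 1 = Q.os ∪ Q.zs := by
    ext χ
    rw [CentralClass.mem_cls, Finset.mem_union]
    constructor
    · rintro ⟨hχ, h1⟩
      rcases hdecomp χ hχ with h | h | h | h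
      · rw [hx0 χ h] at h1; omega
      · rw [hu0 χ h] at h1; omega
      · exact Or.inl h
      · exact Or.inr h
    · rintro (h | h)
      · exact ⟨(Q.mem_os.mp h).1, ho1 χ h⟩
      · exact ⟨(Q.mem_zs.mp h).1, hz1 χ h⟩
  have hgood : Q.Good := by
    rcases hS.cases with h | ⟨he, hzs, -, hbad⟩
    · exact h
    exfalso
    rcases hbad with hlt | ⟨i, χ, hχ, hne⟩
    · have hk := (DihBlock.invariants hM hBb hDb (n := e + 2) (by omega) ⟨ιb⟩).1
      rw [CentralClass.natCard_eq_bset] at hk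
      have h1 := congrArg Finset.card hcls
      rw [hc0, Finset.card_image_of_injective _ SubForm.inflChar_injective, hk,
        Finset.card_union_of_disjoint (Finset.disjoint_left.mpr fun χ h h' =>
          (Q.mem_xs.mp h).2 (Q.mem_us.mp h').2.1), Q.wv_shape.2, show e + 2 - 2 = e by omega] at h1
      omega
    · have h1 := hj1 χ (hpo χ i hne)
      rw [hx0 χ hχ] at h1
      omega
  -- the trace of the second class
  have hdjz : Disjoint Q.os Q.zs := Finset.disjoint_left.mpr fun χ h h' => by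
    obtain ⟨-, -, i, hi⟩ := Q.mem_os.mp h
    exact hi ((Q.mem_zs.mp h').2.2.2 i)
  have htr : ∑ θ ∈ CentralClass.cls B j 1, wI 2 B θ θ = 2 ^ (e + 2) * (blockRank 2 B : ℤ) := by
    have h1 : ∑ η ∈ bset B, ((2 ^ 1 : ℕ) : ℤ) * ∑ θ ∈ CentralClass.cls B j 1, wI 2 B η θ * wI 2 B θ η =
        ∑ η ∈ bset B, (2 : ℤ) ^ blockDefect 2 B * wI 2 B η η := Finset.sum_congr rfl fun η hη =>
      CentralClass.mul_sum_cls hM hB hzc hza hω hj hz (mem_bset.mp hη) (mem_bset.mp hη) (by norm_num)
    have h2 := pow_mul_blockRank hM hB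
    rw [← Finset.mul_sum, Finset.sum_comm, ← Finset.mul_sum] at h1
    rw [Finset.sum_congr rfl (g := fun θ => (2 : ℤ) ^ blockDefect 2 B * wI 2 B θ θ) fun θ hθ => by
      have h := sum_wI_sq hM hB (CentralClass.mem_cls.mp hθ).1
      push_cast at h
      rw [← h]
      exact Finset.sum_congr rfl fun η _ => by rw [wI_symm hM η θ, sq], ← Finset.mul_sum] at h1
    push_cast at h1 h2
    rw [← h2, Q.defect] at h1
    refine mul_left_cancel₀ (pow_ne_zero (e + 3) (two_ne_zero (α := ℤ))) ?_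
    rw [show (2 : ℤ) ^ (e + 3) = 2 * 2 ^ (e + 2) by rw [← pow_succ']] at h1 ⊢
    refine mul_left_cancel₀ (two_ne_zero (α := ℤ)) ?_
    linear_combination h1
  have hzsum : ∑ θ ∈ Q.zs, wI 2 B θ θ = 2 ^ (e + 2) * (Q.zs.card : ℤ) := by
    rw [Finset.sum_congr rfl fun θ hθ => (Q.row_zs hθ).2.1, Finset.sum_const, nsmul_eq_mul, mul_comm]
  have hosum : ∑ θ ∈ Q.os, wI 2 B θ θ = if e = 0 then 0 else 2 ^ (e + 2) := by
    split_ifs with he
    · rw [Finset.sum_eq_zero]
      intro χ hχ
      obtain ⟨-, -, i, -⟩ := Q.mem_os.mp hχ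
      have := i.2
      simp [he] at this
    have hcard : Q.os.card = 2 ^ e := hgood.2.1 (by omega)
    have hval : ∀ g ∈ Q.os, wI 2 B g g = 4 := by
      intro g hg
      have hgB := (Q.mem_os.mp hg).1
      have h := CentralClass.mul_sum_cls hM hB hzc hza hω hj hz hgB hgB (s := 1) (by norm_num)
      rw [hc1, Finset.sum_union hdjz, Finset.sum_eq_zero (s := Q.zs) fun r hr => by
        rw [wI_symm hM g r, (Q.row_zs hr).2.2.2 g hgB (fun h => by
          have := hx0 g h; rw [ho1 g hg] at this; omega)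
          (fun h => Finset.disjoint_left.mp hdjz hg (h ▸ hr)), mul_zero], add_zero,
        Finset.sum_congr rfl (g := fun _ => wI 2 B g g * wI 2 B g g) fun θ hθ => by
          rw [wI_symm hM θ g, hS.os_reg θ hθ g hg g], Finset.sum_const, hcard, nsmul_eq_mul, Q.defect] at h
      have hpos := wI_self_pos hM hB hgB
      have h2 : (2 * 2 ^ e * wI 2 B g g : ℤ) = 2 ^ (e + 3) := by
        refine mul_right_cancel₀ hpos.ne' ?_
        push_cast at h
        linear_combination h
      rw [show (2 : ℤ) ^ (e + 3) = 2 * 2 ^ e * 4 by rw [pow_add]; ring] at h2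
      exact mul_left_cancel₀ (mul_ne_zero two_ne_zero (pow_ne_zero _ two_ne_zero)) h2
    rw [Finset.sum_congr rfl hval, Finset.sum_const, hcard, nsmul_eq_mul, pow_add]
    push_cast
    ring
  rw [hc1, Finset.sum_union hdjz, hzsum, hosum] at htr
  rw [CentralClass.natCard_eq_bset, hS.cover, hgood.1]
  have hpz : (2 : ℤ) ^ (e + 2) ≠ 0 := pow_ne_zero _ two_ne_zero
  by_cases he : e = 0
  · have hos0 : Q.os.card = 0 := Finset.card_eq_zero.mpr (Finset.eq_empty_of_forall_notMem fun χ h => by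
      obtain ⟨-, -, i, -⟩ := Q.mem_os.mp h
      have := i.2
      simp [he] at this)
    rw [if_pos he, zero_add] at htr
    have := mul_left_cancel₀ hpz htr
    subst he
    norm_num [hos0]
    omega
  · rw [if_neg he] at htr
    have h1 : (1 + Q.zs.card : ℤ) = blockRank 2 B := mul_left_cancel₀ hpz (by rw [mul_add, mul_one]; exact htr)
    rw [hgood.2.1 (by omega)]
    have := Nat.one_le_two_pow (n := e)
    push_cast [this]
    rw [pow_succ]
    linarith

end Cfsg.Agent.Char.QuatBlock
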