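import Cfsg.Agent.Lib.Char.DihedralBlock.Nilpotent
import Cfsg.Agent.Lib.Char.Induction
import Mathlib.GroupTheory.SpecificGroups.Dihedral

/-!
# Two-groups with an axis of order four and their characters of degree two

The generalized quaternion and the semidihedral groups of order `2 ^ (e + 3)` share everything recorded here.
-/

set_option autoImplicit false
set_option linter.unusedSectionVars false

namespace Cfsg.Agent.Char.QuatBlock

open Cfsg

universe u v

/-- The data common to the groups with an axis. The predicate on `ch` lists the characters of degree two in the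
order of their central values. -/
structure AxisFamily (A : Type v) [Group A] [Fintype A] (e : ℕ) where
  ch : ℕ → A → ℂ
  h : A
  c : A
  r : A
  flip : A
  hcard : Nat.card A = 2 ^ (e + 3)
  orderOf_h : orderOf h = 4
  orderOf_c : orderOf c = 2
  conj_h : ∀ d, d * h * d⁻¹ = h ∨ d * h * d⁻¹ = h⁻¹
  flip_h : flip * h * flip⁻¹ = h⁻¹
  cent_h : ∀ d, Commute d h → d ∈ Subgroup.zpowers r
  invol : ∀ y, orderOf y = 2 → (∀ w, Commute y w) → y = c
  proj : A →* DihedralGroup (2 ^ (e + 1))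
  proj_surj : Function.Surjective proj
  proj_ker : ∀ y, proj y = 1 ↔ y = 1 ∨ y = c
  ch_char : ∀ j, IsCharacter A (ch j)
  ch_one : ∀ j, ch j 1 = 2
  ch_c : ∀ j, ch j c = 2 * (-1) ^ j
  ch_inner : ∀ b d, b ≤ 2 ^ (e + 1) → d ≤ 2 ^ (e + 1) → classInner (ch b) (ch d) =
    if b = d then (if b = 0 ∨ b = 2 ^ (e + 1) then 2 else 1) else 0
  ch_sum : ∀ y : A, (∀ [DecidableEq A], (if y = 1 then (Nat.card A : ℂ) else 0) =
    ch 0 y + ch (2 ^ (e + 1)) y + ∑ j ∈ Finset.range (2 ^ (e + 1) - 1), 2 * ch (j + 1) y)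
  ch_onRot : ∀ b d, Even (b + d) → ∀ y, ch b y ≠ ch d y → ∃ k : ℕ, y ^ 2 ^ k = h ∨ y ^ 2 ^ k = h⁻¹

variable {H : Type u} [Group H] [Fintype H] {A : Type v} [Group A] [Fintype A] {e : ℕ}

theorem AxisFamily.ppower (F : AxisFamily A e) (x : A) : ∃ b : ℕ, orderOf x = 2 ^ b := by
  have hd : orderOf x ∣ 2 ^ (e + 3) := F.hcard ▸ orderOf_dvd_natCard x
  obtain ⟨b, -, hb⟩ := (Nat.dvd_prime_pow Nat.prime_two).mp hd
  exact ⟨b, hb⟩

theorem mem_zpowers_of_orderOf {r y y' : A} (hy : y ∈ Subgroup.zpowers r) (hy' : y' ∈ Subgroup.zpowers r)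
    (h : orderOf y' = orderOf y) : y' ∈ Subgroup.zpowers y := by
  classical
  set C := Subgroup.zpowers r
  set s := (Finset.range (orderOf y)).image fun i => (⟨y, hy⟩ : C) ^ i with hs
  have hsub : s ⊆ Finset.univ.filter fun w : C => w ^ orderOf y = 1 := by
    intro w hw
    obtain ⟨i, -, rfl⟩ := Finset.mem_image.mp hw
    refine Finset.mem_filter.mpr ⟨Finset.mem_univ _, Subtype.ext ?_⟩
    simp only [SubgroupClass.coe_pow, OneMemClass.coe_one]
    rw [← pow_mul, mul_comm, pow_mul, pow_orderOf_eq_one, one_pow]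
  have hc : s.card = orderOf y := by
    rw [hs, Finset.card_image_of_injOn, Finset.card_range]
    intro i hi j hj hij
    exact pow_injOn_Iio_orderOf (Set.mem_Iio.mpr (Finset.mem_range.mp hi)) (Set.mem_Iio.mpr (Finset.mem_range.mp hj))
      (by simpa using congrArg Subtype.val hij)
  have heq : s = Finset.univ.filter fun w : C => w ^ orderOf y = 1 :=
    Finset.eq_of_subset_of_card_le hsub ((IsCyclic.card_pow_eq_one_le (orderOf_pos y)).trans hc.ge)
  have hm : (⟨y', hy'⟩ : C) ∈ s := by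
    rw [heq]
    refine Finset.mem_filter.mpr ⟨Finset.mem_univ _, Subtype.ext ?_⟩
    simp only [SubgroupClass.coe_pow, OneMemClass.coe_one]
    rw [← h, pow_orderOf_eq_one]
  obtain ⟨i, -, hi⟩ := Finset.mem_image.mp hm
  have := congrArg Subtype.val hi
  simp only [SubgroupClass.coe_pow] at this
  exact this ▸ Subgroup.pow_mem _ (Subgroup.mem_zpowers y) i

/-- An element of odd order fixing the axis centralises the subgroups of the `2`-group that it normalises. -/
theorem centralizes_axis (F : AxisFamily A e) (j : A →* H) (hj : Function.Injective j) {x : H}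
    (hxu : x * j F.h * x⁻¹ = j F.h) {Q : Subgroup H} (hQ : ∀ q ∈ Q, ∃ d, j d = q) (hx : Odd (orderOf x))
    (hxQ : x ∈ Subgroup.normalizer (Q : Set H)) {q : H} (hq : q ∈ Q) : x * q * x⁻¹ = q := by
  have hconj : ∀ {q : H}, q ∈ Q → x * q * x⁻¹ ∈ Q := fun h => (Subgroup.mem_normalizer_iff.mp hxQ _).mp h
  have hr : ∀ d ∈ Subgroup.zpowers F.r, ∀ d' ∈ Subgroup.zpowers F.r, Commute d d' := by
    intro d hd d' hd'
    obtain ⟨i, rfl⟩ := Subgroup.mem_zpowers_iff.mp hd
    obtain ⟨k, rfl⟩ := Subgroup.mem_zpowers_iff.mp hd'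
    exact Commute.zpow_zpow (Commute.refl _) _ _
  have hcm : ∀ d d' : A, x * j d * x⁻¹ = j d' → Commute d F.h → Commute d' F.h := by
    intro d d' hdd hc
    refine hj ?_
    rw [map_mul, map_mul, ← hdd]
    conv_lhs => arg 2; rw [← hxu]
    conv_rhs => arg 1; rw [← hxu]
    calc x * j d * x⁻¹ * (x * j F.h * x⁻¹) = x * j (d * F.h) * x⁻¹ := by rw [map_mul]; group
      _ = x * j (F.h * d) * x⁻¹ := by rw [hc.eq]
      _ = x * j F.h * x⁻¹ * (x * j d * x⁻¹) := by rw [map_mul]; group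
  have hrot : ∀ d, j d ∈ Q → Commute d F.h → x * j d * x⁻¹ = j d := by
    intro d hd hc
    obtain ⟨d', hd'⟩ := hQ _ (hconj hd)
    have hord : orderOf d' = orderOf d := by
      rw [← orderOf_injective j hj d', ← orderOf_injective j hj d, hd',
        show x * j d * x⁻¹ = MulAut.conj x (j d) from rfl, MulEquiv.orderOf_eq]
    obtain ⟨n, hn⟩ := ((Submonoid.mem_powers_iff _ _).mp (mem_powers_iff_mem_zpowers.mpr
      (mem_zpowers_of_orderOf (F.cent_h d hc) (F.cent_h d' (hcm d d' hd'.symm hc)) hord)))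
    obtain ⟨b, hb⟩ := F.ppower d
    refine DihBlock.commute_of_zpowers ⟨b, by rw [orderOf_injective j hj, hb]⟩ hx (c := n) ?_
    rw [← hd', ← hn, map_pow]
  obtain ⟨d, rfl⟩ := hQ q hq
  by_cases hc : Commute d F.h
  · exact hrot d hq hc
  obtain ⟨d', hd'⟩ := hQ _ (hconj hq)
  set y := j d with hy
  have hcQ : j (d⁻¹ * d') ∈ Q := by
    rw [map_mul, map_inv, hd', ← hy]
    exact mul_mem (inv_mem hq) (hconj hq)
  have hc' : ¬ Commute d' F.h := fun h => hc (by
    refine hj ?_
    rw [map_mul, map_mul, show j d = x⁻¹ * j d' * x by rw [hd', hy]; group]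
    have e1 : j F.h = x⁻¹ * j F.h * x := by
      conv_rhs => rw [← hxu]
      group
    rw [e1]
    calc x⁻¹ * j d' * x * (x⁻¹ * j F.h * x) = x⁻¹ * j (d' * F.h) * x := by rw [map_mul]; group
      _ = x⁻¹ * j (F.h * d') * x := by rw [h.eq]
      _ = _ := by rw [map_mul]; group)
  have hflip : ∀ w, ¬ Commute w F.h → w * F.h * w⁻¹ = F.h⁻¹ := fun w hw =>
    (F.conj_h w).resolve_left fun h => hw (mul_inv_eq_iff_eq_mul.mp h)
  have hcl : Commute (d⁻¹ * d') F.h := by
    refine mul_inv_eq_iff_eq_mul.mp ?_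
    calc d⁻¹ * d' * F.h * (d⁻¹ * d')⁻¹ = d⁻¹ * (d' * F.h * d'⁻¹) * d := by group
      _ = d⁻¹ * (d * F.h * d⁻¹) * d := by rw [hflip _ hc', hflip _ hc]
      _ = F.h := by group
  set c := j (d⁻¹ * d') with hcd
  have hyc : x * y * x⁻¹ = y * c := by rw [hcd, map_mul, map_inv, hd', ← hy]; group
  have hxc : x * c * x⁻¹ = c := hrot _ hcQ hcl
  have hit : ∀ n : ℕ, x ^ n * y * (x ^ n)⁻¹ = y * c ^ n := by
    intro n
    induction n with
    | zero => simp
    | succ n ih =>
      calc x ^ (n + 1) * y * (x ^ (n + 1))⁻¹ = x * (x ^ n * y * (x ^ n)⁻¹) * x⁻¹ := by rw [pow_succ']; group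
        _ = (x * y * x⁻¹) * (x * c * x⁻¹) ^ n := by rw [ih, conj_pow]; group
        _ = _ := by rw [hyc, hxc, pow_succ', mul_assoc]
  have h1 := hit (orderOf x)
  rw [pow_orderOf_eq_one] at h1
  have h2c : c ^ orderOf x = 1 := by simpa using h1
  obtain ⟨b, hb⟩ := F.ppower (d⁻¹ * d')
  have : c = 1 := orderOf_eq_one_iff.mp (Nat.eq_one_of_dvd_coprimes
    ((Nat.coprime_two_left.mpr hx).pow_left b) (by rw [hcd, orderOf_injective j hj, hb])
    (orderOf_dvd_of_pow_eq_one h2c))
  rw [hyc, this, mul_one]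

/-- A block with such a defect group in which the axis is fused only to its inverse is nilpotent. -/
theorem nilpotent_of_axis {M : Ideal AlgInt} (hM : IsPModular 2 M) {f : Set (IrrCharacter H)}
    (hf : IsPBlock M f) {P : Subgroup H} (hP : IsDefectGroup 2 M f P) (F : AxisFamily A e) (ι : A ≃* P)
    (hax : ∀ w : H, w * ((ι F.h : P) : H) * w⁻¹ = ((ι F.h : P) : H) ∨
      w * ((ι F.h : P) : H) * w⁻¹ = (((ι F.h : P) : H))⁻¹) :
    IsNilpotentBlock 2 M f := by
  obtain ⟨e', he⟩ := exists_pair_of_le_defect hM hf hP le_rfl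
  have hmax := maximal_of_defect hM hP he
  refine ⟨hf, fun Q f' hQ x hx _ hreg => ?_⟩
  obtain ⟨g, hg⟩ := pairs_conj_into_maximal hM hmax hQ
  have hle : Q.map (MulAut.conj g).toMonoidHom ≤ P := subpair_rel_le hg
  rw [Subgroup.mem_centralizer_iff]
  intro q hq
  set w := g * x * g⁻¹ with hw
  have hord : Odd (orderOf w) := by
    rw [hw, show g * x * g⁻¹ = MulAut.conj g x from rfl, MulEquiv.orderOf_eq, Nat.odd_iff]
    have : ¬ 2 ∣ orderOf x := hreg
    omega
  have hwu : w * ((ι F.h : P) : H) * w⁻¹ = ((ι F.h : P) : H) := by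
    set u := ((ι F.h : P) : H)
    rcases hax w with e | e
    · exact e
    have hev : ∀ k : ℕ, w ^ (2 * k) * u * (w ^ (2 * k))⁻¹ = u := by
      intro k
      induction k with
      | zero => simp
      | succ k ih =>
        calc w ^ (2 * (k + 1)) * u * (w ^ (2 * (k + 1)))⁻¹
            = w * (w * (w ^ (2 * k) * u * (w ^ (2 * k))⁻¹) * w⁻¹) * w⁻¹ := by
              rw [show 2 * (k + 1) = (2 * k + 1) + 1 by ring, pow_succ', pow_succ']; group
          _ = w * u⁻¹ * w⁻¹ := by rw [ih, e]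
          _ = (w * u * w⁻¹)⁻¹ := by group
          _ = u := by rw [e, inv_inv]
    obtain ⟨k, hk⟩ := hord
    have h1 := pow_orderOf_eq_one w
    rw [hk, pow_succ'] at h1
    have h2 : w ^ (2 * k) = w⁻¹ := eq_inv_of_mul_eq_one_right h1
    have h3 := hev k
    rw [h2] at h3
    calc w * u * w⁻¹ = w * (w⁻¹ * u * w⁻¹⁻¹) * w⁻¹ := by rw [h3]
      _ = u := by group
  have hN' : w ∈ Subgroup.normalizer ((Q.map (MulAut.conj g).toMonoidHom : Subgroup H) : Set H) := by
    have h := Subgroup.le_normalizer_map (H := Q) (MulAut.conj g).toMonoidHom ⟨x, hx, rfl⟩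
    simpa [hw] using h
  have h := centralizes_axis F (P.subtype.comp ι.toMonoidHom) (P.subtype_injective.comp ι.injective) hwu
    (Q := Q.map (MulAut.conj g).toMonoidHom) (fun q hq => ⟨ι.symm ⟨q, hle hq⟩, by simp⟩) hord hN'
    (q := g * q * g⁻¹) ⟨q, hq, rfl⟩
  have h' : x * q * x⁻¹ = q := by
    calc x * q * x⁻¹ = g⁻¹ * (w * (g * q * g⁻¹) * w⁻¹) * g := by rw [hw]; group
      _ = q := by rw [h]; group
  calc q * x = (x * q * x⁻¹) * x := by rw [h']
    _ = x * q := by group

end Cfsg.Agent.Char.QuatBlock
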