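import Cfsg.Agent.Lib.Char.DihedralBlock.Column
import Cfsg.Agent.Lib.Char.QuatBlock.Family
import Mathlib.GroupTheory.SpecificGroups.Quaternion

/-!
# Class functions of a quaternion group on the rotations

Differences of the characters `qth j` of degree two vanishing on the centre, and their inner products.
-/

set_option autoImplicit false
set_option linter.unusedSectionVars false

namespace Cfsg.Agent.Char.QuatBlock

open Cfsg QuaternionGroup
open scoped ComplexConjugate

variable {m : ℕ} [NeZero m] {ζ : ℂ} (hζ : IsPrimitiveRoot ζ (2 * m))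

theorem neg_natCast_m : -(m : ZMod (2 * m)) = (m : ZMod (2 * m)) := by
  rw [neg_eq_iff_add_eq_zero, ← Nat.cast_add, ← two_mul, ZMod.natCast_self]

theorem natCast_m_ne : (m : ZMod (2 * m)) ≠ 0 := by
  rw [Ne, ZMod.natCast_eq_zero_iff]
  intro h
  have := Nat.le_of_dvd (NeZero.pos m) h
  have := NeZero.pos m
  omega

theorem dihE_m : dihE hζ (m : ZMod (2 * m)) = -1 := by
  have h := DihBlock.dihE_half hζ (dvd_mul_right 2 m)
  rwa [Nat.mul_div_cancel_left _ two_pos] at h

/-- The characters of degree two. -/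
noncomputable def qth (j : ZMod (2 * m)) : QuaternionGroup m → ℂ
  | a i => dihE hζ (j * i) + dihE hζ (-(j * i))
  | xa _ => 0

/-- The matrices of the representations of degree two. -/
noncomputable def qmat (j : ZMod (2 * m)) : QuaternionGroup m →* Matrix (Fin 2) (Fin 2) ℂ where
  toFun
    | a i => !![dihE hζ (j * i), 0; 0, dihE hζ (-(j * i))]
    | xa i => !![0, dihE hζ (j * m + -(j * i)); dihE hζ (j * i), 0]
  map_one' := by
    simp only [QuaternionGroup.one_def, mul_zero, neg_zero, AddChar.map_zero_eq_one]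
    exact Matrix.one_fin_two.symm
  map_mul' := by
    have hjm : ∀ x : ZMod (2 * m), x + -(j * m) = x + j * m := fun x => by rw [← mul_neg, neg_natCast_m]
    rintro (b | b) (c | c) <;>
      simp only [a_mul_a, a_mul_xa, xa_mul_a, xa_mul_xa, Matrix.mul_fin_two, mul_zero, zero_mul, add_zero,
        zero_add, ← AddChar.map_add_eq_mul]
    · ring_nf
    · ring_nf
    · ring_nf
    · rw [show -(j * ((m : ZMod (2 * m)) + c - b)) = (-(j * c) + j * b) + -(j * m) by ring, hjm]
      ring_nf

theorem qth_isCharacter (j : ZMod (2 * m)) : IsCharacter _ (qth hζ j) := by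
  let ρ : Representation ℂ (QuaternionGroup m) (Fin 2 → ℂ) :=
    (Matrix.toLinAlgEquiv' (R := ℂ) (n := Fin 2)).toRingEquiv.toMonoidHom.comp (qmat hζ j)
  refine ⟨2, ρ, funext fun y => ?_⟩
  show LinearMap.trace ℂ _ (Matrix.toLin' (qmat hζ j y)) = _
  rw [Matrix.trace_toLin'_eq]
  rcases y with i | i <;> simp [qmat, qth, Matrix.trace_fin_two]

theorem qth_isClass (j : ZMod (2 * m)) : IsClassFunction _ (qth hζ j) :=
  isClassFunction_character (qth_isCharacter hζ j)

theorem qth_neg (j : ZMod (2 * m)) : qth hζ (-j) = qth hζ j := by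
  funext y
  rcases y with i | i
  · simp only [qth, neg_mul, neg_neg, add_comm]
  · rfl

theorem qth_one (j : ZMod (2 * m)) : qth hζ j 1 = 2 := by
  rw [QuaternionGroup.one_def]
  simp only [qth, mul_zero, neg_zero, AddChar.map_zero_eq_one]
  norm_num

theorem qth_centre (j : ℕ) : qth hζ (j : ZMod (2 * m)) (a (m : ZMod (2 * m))) = 2 * (-1) ^ j := by
  simp only [qth]
  rw [← mul_neg, neg_natCast_m, ← nsmul_eq_mul, AddChar.map_nsmul_eq_pow, dihE_m]
  ring

theorem sum_quat (F : QuaternionGroup m → ℂ) : ∑ y, F y = (∑ i, F (a i)) + ∑ i, F (xa i) := by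
  rw [← Equiv.sum_comp (show ZMod (2 * m) ⊕ ZMod (2 * m) ≃ QuaternionGroup m from
    ⟨fun s => s.elim a xa, fun d => match d with | a i => Sum.inl i | xa i => Sum.inr i,
      by rintro (i | i) <;> rfl, by rintro (i | i) <;> rfl⟩) F, Fintype.sum_sum_type]
  rfl

theorem qth_inner (b c : ZMod (2 * m)) :
    classInner (qth hζ b) (qth hζ c) = (if b = c then 1 else 0) + if b = -c then (1 : ℂ) else 0 := by
  have key : ∀ i, qth hζ b (a i) * conj (qth hζ c (a i)) =
      dihE hζ ((b - c) * i) + dihE hζ ((b + c) * i) + dihE hζ ((-b - c) * i) + dihE hζ ((-b + c) * i) := by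
    intro i
    simp only [qth, map_add, DihBlock.conj_dihE, neg_neg, add_mul, mul_add, ← AddChar.map_add_eq_mul]
    ring_nf
  rw [classInner, Nat.card_eq_fintype_card, QuaternionGroup.card, sum_quat,
    show (∑ i, qth hζ b (xa i) * conj (qth hζ c (xa i))) = 0 from
      Finset.sum_eq_zero fun i _ => by simp [qth], add_zero, Finset.sum_congr rfl fun i _ => key i]
  simp only [Finset.sum_add_distrib, dihE_sum_left]
  have e1 : (b - c = 0) ↔ b = c := sub_eq_zero
  have e2 : (b + c = 0) ↔ b = -c := add_eq_zero_iff_eq_neg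
  have e3 : (-b - c = 0) ↔ b = -c := ⟨fun h => by linear_combination -h, fun h => by rw [h]; ring⟩
  have e4 : (-b + c = 0) ↔ b = c := ⟨fun h => by linear_combination -h, fun h => by rw [h]; ring⟩
  simp only [e1, e2, e3, e4]
  have hm : (m : ℂ) ≠ 0 := Nat.cast_ne_zero.mpr (NeZero.ne m)
  push_cast
  split_ifs <;> field_simp <;> ring

/-- The inner products for the indices up to `m`. -/
theorem qth_inner_nat {b c : ℕ} (hb : b ≤ m) (hc : c ≤ m) :
    classInner (qth hζ (b : ZMod (2 * m))) (qth hζ (c : ZMod (2 * m))) =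
      if b = c then (if b = 0 ∨ b = m then 2 else 1) else 0 := by
  have := NeZero.pos m
  have h1 : ((b : ZMod (2 * m)) = c) ↔ b = c := by
    refine ⟨fun h => ?_, fun h => by rw [h]⟩
    have := congrArg ZMod.val h
    rwa [ZMod.val_cast_of_lt (by omega), ZMod.val_cast_of_lt (by omega)] at this
  have h2 : ((b : ZMod (2 * m)) = -(c : ZMod (2 * m))) ↔ b = c ∧ (b = 0 ∨ b = m) := by
    rw [eq_neg_iff_add_eq_zero, ← Nat.cast_add, ZMod.natCast_eq_zero_iff]
    refine ⟨fun ⟨t, ht⟩ => ?_, fun ⟨h, h'⟩ => ?_⟩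
    · rcases Nat.lt_or_ge t 2 with h | h
      · interval_cases t <;> omega
      · have : 2 * m * 2 ≤ 2 * m * t := Nat.mul_le_mul_left _ h
        omega
    · rcases h' with rfl | rfl
      · exact ⟨0, by omega⟩
      · exact ⟨1, by omega⟩
  rw [qth_inner]
  simp only [h1, h2]
  by_cases e : b = c <;> simp only [e, true_and, false_and, if_true, if_false, add_zero]
  split_ifs <;> norm_num

/-- The regular character. -/
theorem delta_eq : (fun y : QuaternionGroup m => if y = 1 then (Nat.card (QuaternionGroup m) : ℂ) else 0) =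
    ∑ j, (1 : ℂ) • qth hζ j := by
  funext y
  rcases y with i | i
  · simp only [one_smul, Finset.sum_apply, qth, Finset.sum_add_distrib, ← neg_mul, QuaternionGroup.one_def,
      a.injEq, Nat.card_eq_fintype_card, QuaternionGroup.card]
    rw [show (fun j : ZMod (2 * m) => dihE hζ (j * i)) = fun j => dihE hζ (i * j) from
        funext fun j => congrArg _ (mul_comm j i),
      show (fun j : ZMod (2 * m) => dihE hζ (-j * i)) = fun j => dihE hζ ((-i) * j) from
        funext fun j => by ring_nf, dihE_sum_left, dihE_sum_left]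
    simp only [neg_eq_zero]
    split_ifs <;> push_cast <;> ring
  · rw [QuaternionGroup.one_def]
    simp [qth, -a_zero]

/-- Functions vanishing on the centre and outside the rotations. -/
def OnRot (μ : QuaternionGroup m → ℂ) : Prop :=
  μ (a 0) = 0 ∧ μ (a (m : ZMod (2 * m))) = 0 ∧ ∀ i, μ (xa i) = 0

/-- The difference of two characters of degree two. -/
noncomputable def dif (b c : ℕ) : QuaternionGroup m → ℂ :=
  qth hζ (b : ZMod (2 * m)) - qth hζ (c : ZMod (2 * m))

theorem dif_isClass (b c : ℕ) : IsClassFunction _ (dif hζ b c) := fun g k => by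
  simp only [dif, Pi.sub_apply, qth_isClass hζ _ g k]

theorem onRot_dif {b c : ℕ} (h : Even (b + c)) : OnRot (dif hζ b c) := by
  refine ⟨?_, ?_, fun i => by simp [dif, qth]⟩
  · rw [← QuaternionGroup.one_def]
    simp [dif, qth_one]
  · simp only [dif, Pi.sub_apply, qth_centre]
    rw [Nat.even_add] at h
    by_cases hb : Even b
    · rw [hb.neg_one_pow, (h.mp hb).neg_one_pow, sub_self]
    · rw [(Nat.not_even_iff_odd.mp hb).neg_one_pow,
        (Nat.not_even_iff_odd.mp fun hc => hb (h.mpr hc)).neg_one_pow, sub_self]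

theorem dif_inner (b c b' c' : ℕ) :
    classInner (dif hζ b c) (dif hζ b' c') =
      (classInner (qth hζ (b : ZMod (2 * m))) (qth hζ (b' : ZMod (2 * m))) -
        classInner (qth hζ (b : ZMod (2 * m))) (qth hζ (c' : ZMod (2 * m)))) -
      (classInner (qth hζ (c : ZMod (2 * m))) (qth hζ (b' : ZMod (2 * m))) -
        classInner (qth hζ (c : ZMod (2 * m))) (qth hζ (c' : ZMod (2 * m)))) := by
  rw [dif, dif, classInner_sub_left, classInner_sub_right, classInner_sub_right]

/-- A rotation outside the centre has a power equal to the rotation of order four or to its inverse. -/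
theorem rot_pow {e : ℕ} (hm : m = 2 ^ (e + 1)) {i : ZMod (2 * m)} (hi : i ≠ 0) (hi' : i ≠ m) :
    ∃ k : ℕ, (a i : QuaternionGroup m) ^ 2 ^ k = a ((2 ^ e : ℕ) : ZMod (2 * m)) ∨
      (a i : QuaternionGroup m) ^ 2 ^ k = (a ((2 ^ e : ℕ) : ZMod (2 * m)))⁻¹ := by
  have hN : 2 * m = 2 ^ (e + 2) := by rw [hm, pow_succ' 2 (e + 1)]
  obtain ⟨k, hk⟩ := DihBlock.rot_pow_half hN (dvd_mul_right 2 m) hi
  rw [DihedralGroup.r_pow, Nat.mul_div_cancel_left _ two_pos, DihedralGroup.r.injEq] at hk
  rcases k with _ | k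
  · exact absurd (by simpa using hk) hi'
  set h : ZMod (2 * m) := ((2 ^ e : ℕ) : ZMod (2 * m)) with hh
  have h2 : h + h = (m : ZMod (2 * m)) := by
    rw [hh, ← Nat.cast_add]
    congr 1
    rw [hm, pow_succ]
    omega
  have hpow : (a i : QuaternionGroup m) ^ 2 ^ k = a (((2 ^ k : ℕ) : ZMod (2 * m)) * i) := by
    conv_lhs => rw [← ZMod.natCast_zmod_val i, ← a_one_pow, ← pow_mul, a_one_pow, Nat.cast_mul,
      ZMod.natCast_zmod_val, mul_comm]
  set x : ZMod (2 * m) := ((2 ^ k : ℕ) : ZMod (2 * m)) * i with hx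
  have hxx : (x - h) + (x - h) = 0 := by
    have e1 : x + x = (m : ZMod (2 * m)) := by
      rw [← hk, hx, pow_succ]
      push_cast
      ring
    linear_combination e1 - h2
  refine ⟨k, ?_⟩
  rcases DihBlock.zmod_two_torsion (dvd_mul_right 2 m) hxx with h0 | h0
  · exact Or.inl (by rw [hpow, sub_eq_zero.mp h0])
  · refine Or.inr ?_
    rw [hpow]
    show a x = a (-h)
    rw [Nat.mul_div_cancel_left _ two_pos] at h0
    congr 1
    have hmm : (m : ZMod (2 * m)) + (m : ZMod (2 * m)) = 0 := by rw [← Nat.cast_add, ← two_mul, ZMod.natCast_self]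
    linear_combination h0 + h2 + hmm

/-- The index of the rotation of order four. -/
def qh (m : ℕ) : ZMod (2 * m) := ((m / 2 : ℕ) : ZMod (2 * m))

theorem qh_add {e : ℕ} (hm : m = 2 ^ (e + 1)) : qh m + qh m = (m : ZMod (2 * m)) := by
  rw [qh, ← Nat.cast_add]
  congr 1
  rw [hm, pow_succ]
  omega

theorem qh_add_ne {e : ℕ} (hm : m = 2 ^ (e + 1)) : qh m + qh m ≠ 0 := by
  rw [qh_add hm]; exact natCast_m_ne

theorem qh_eq {e : ℕ} (hm : m = 2 ^ (e + 1)) : qh m = ((2 ^ e : ℕ) : ZMod (2 * m)) := by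
  rw [qh]
  congr 1
  rw [hm, pow_succ, Nat.mul_div_cancel _ two_pos]

theorem conj_rot (d : QuaternionGroup m) :
    d * a (qh m) * d⁻¹ = a (qh m) ∨ d * a (qh m) * d⁻¹ = (a (qh m))⁻¹ := by
  rcases d with i | i
  · left
    rw [a_mul_a, show (a i : QuaternionGroup m)⁻¹ = a (-i) from rfl, a_mul_a]
    congr 1
    ring
  · right
    rw [mul_inv_eq_iff_eq_mul, xa_mul_a, show (a (qh m) : QuaternionGroup m)⁻¹ = a (-qh m) from rfl, a_mul_xa,
      sub_neg_eq_add]

theorem orderOf_qh {e : ℕ} (hm : m = 2 ^ (e + 1)) : orderOf (a (qh m) : QuaternionGroup m) = 4 := by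
  haveI := Fact.mk Nat.prime_two
  refine orderOf_eq_prime_pow (p := 2) (n := 1) ?_ ?_
  · rw [pow_one, sq, a_mul_a, QuaternionGroup.one_def, a.injEq]
    exact qh_add_ne hm
  · rw [show (2 : ℕ) ^ (1 + 1) = 2 + 2 from rfl, pow_add, sq, a_mul_a, a_mul_a, qh_add hm, QuaternionGroup.one_def,
      ← Nat.cast_add, ← two_mul, ZMod.natCast_self]

theorem involution_eq {m : ℕ} [NeZero m] {y : QuaternionGroup m} (h : orderOf y = 2) :
    y = a (m : ZMod (2 * m)) := by
  rcases y with i | i
  · have h2 : (a i : QuaternionGroup m) ^ 2 = 1 := by rw [← h]; exact pow_orderOf_eq_one _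
    rw [sq, a_mul_a, QuaternionGroup.one_def, a.injEq] at h2
    rcases DihBlock.zmod_two_torsion (dvd_mul_right 2 m) h2 with rfl | h0
    · rw [← QuaternionGroup.one_def, orderOf_one] at h
      omega
    · rw [h0, Nat.mul_div_cancel_left _ two_pos]
  · rw [orderOf_xa] at h
    omega

/-- Forgetting the central involution. -/
def toDihedral (m : ℕ) : QuaternionGroup m →* DihedralGroup m where
  toFun
    | a i => DihedralGroup.r (ZMod.castHom (dvd_mul_left m 2) (ZMod m) i)
    | xa i => DihedralGroup.sr (ZMod.castHom (dvd_mul_left m 2) (ZMod m) i)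
  map_one' := by
    simp only [QuaternionGroup.one_def, map_zero]
    rfl
  map_mul' := by
    rintro (b | b) (c | c) <;>
      simp only [a_mul_a, a_mul_xa, xa_mul_a, xa_mul_xa, DihedralGroup.r_mul_r, DihedralGroup.r_mul_sr,
        DihedralGroup.sr_mul_r, DihedralGroup.sr_mul_sr, map_add, map_sub, map_natCast, ZMod.natCast_self, zero_add]

theorem toDihedral_surjective (m : ℕ) [NeZero m] : Function.Surjective (toDihedral m) := by
  rintro (i | i)
  · obtain ⟨j, rfl⟩ := ZMod.castHom_surjective (dvd_mul_left m 2) i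
    exact ⟨a j, rfl⟩
  · obtain ⟨j, rfl⟩ := ZMod.castHom_surjective (dvd_mul_left m 2) i
    exact ⟨xa j, rfl⟩

theorem toDihedral_eq_one {m : ℕ} [NeZero m] {y : QuaternionGroup m} :
    toDihedral m y = 1 ↔ y = 1 ∨ y = a (m : ZMod (2 * m)) := by
  constructor
  · intro h
    rcases y with i | i
    · have h' : ZMod.castHom (dvd_mul_left m 2) (ZMod m) i = 0 := DihedralGroup.r.inj h
      rw [← ZMod.natCast_zmod_val i, map_natCast, ZMod.natCast_eq_zero_iff] at h'
      obtain ⟨t, ht⟩ := h'
      have hlt := ZMod.val_lt i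
      have : t < 2 := by
        by_contra hge
        have := Nat.mul_le_mul_left m (not_lt.mp hge)
        omega
      rw [← ZMod.natCast_zmod_val i, ht]
      interval_cases t
      · left; rw [mul_zero, Nat.cast_zero]; rfl
      · right; rw [mul_one]
    · exact nomatch h
  · rintro (rfl | rfl)
    · exact map_one _
    · show DihedralGroup.r _ = 1
      rw [map_natCast, ZMod.natCast_self]
      rfl

/-- A root of unity of order twice `m`. -/
noncomputable def zeta (e : ℕ) : ℂ :=
  Complex.exp (2 * (Real.pi : ℂ) * Complex.I / ((2 * 2 ^ (e + 1) : ℕ) : ℂ))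

theorem hzeta (e : ℕ) : IsPrimitiveRoot (zeta e) (2 * 2 ^ (e + 1)) :=
  Complex.isPrimitiveRoot_exp _ (mul_ne_zero two_ne_zero (pow_ne_zero _ two_ne_zero))

theorem cent_qh {e : ℕ} (hm : m = 2 ^ (e + 1)) (d : QuaternionGroup m) (hc : Commute d (a (qh m))) :
    d ∈ Subgroup.zpowers (a 1 : QuaternionGroup m) := by
  rcases d with i | i
  · exact ⟨(i.val : ℤ), by
      show (a 1 : QuaternionGroup m) ^ (i.val : ℤ) = a i
      rw [zpow_natCast, a_one_pow, ZMod.natCast_zmod_val]⟩
  · exfalso
    have := hc.eq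
    rw [xa_mul_a, a_mul_xa, xa.injEq] at this
    exact qh_add_ne hm (by linear_combination this)

/-- The quaternion group as a member of the family. -/
noncomputable def family (e : ℕ) : AxisFamily (QuaternionGroup (2 ^ (e + 1))) e where
  ch j := qth (hzeta e) (j : ZMod (2 * 2 ^ (e + 1)))
  h := a (qh (2 ^ (e + 1)))
  c := a ((2 ^ (e + 1) : ℕ) : ZMod (2 * 2 ^ (e + 1)))
  r := a 1
  flip := xa 0
  hcard := by rw [Nat.card_eq_fintype_card, QuaternionGroup.card, pow_succ, pow_succ, pow_succ, pow_succ]; ring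
  orderOf_h := orderOf_qh rfl
  orderOf_c := by
    refine orderOf_eq_prime ?_ ?_
    · rw [sq, a_mul_a, QuaternionGroup.one_def, ← Nat.cast_add, ← two_mul, ZMod.natCast_self]
    · rw [QuaternionGroup.one_def, Ne, a.injEq]
      exact natCast_m_ne
  conj_h := conj_rot
  flip_h := by
    rcases conj_rot (xa 0 : QuaternionGroup (2 ^ (e + 1))) with h | h
    · exfalso
      rw [mul_inv_eq_iff_eq_mul, xa_mul_a, a_mul_xa, xa.injEq] at h
      exact qh_add_ne (e := e) rfl (by linear_combination h)
    · exact h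
  cent_h := cent_qh rfl
  invol _ h _ := involution_eq h
  proj := toDihedral (2 ^ (e + 1))
  proj_surj := toDihedral_surjective _
  proj_ker _ := toDihedral_eq_one
  ch_char _ := qth_isCharacter _ _
  ch_one _ := qth_one _ _
  ch_c := qth_centre (hzeta e)
  ch_inner _ _ hb hd := qth_inner_nat (hzeta e) hb hd
  ch_sum y _ := by
    rw [show ((if y = 1 then (Nat.card (QuaternionGroup (2 ^ (e + 1))) : ℂ) else 0)) = ∑ j, (1 : ℂ) *
        qth (hzeta e) j y from by
          have := congrFun (delta_eq (hzeta e) (m := 2 ^ (e + 1))) y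
          simp only [Finset.sum_apply, Pi.smul_apply, smul_eq_mul] at this
          rw [← this]; split_ifs <;> rfl,
      DihBlock.sum_split (N := 2 * 2 ^ (e + 1)) rfl Nat.one_le_two_pow]
    simp only [qth_neg, one_mul, Nat.cast_zero]
    rw [Fin.sum_univ_eq_sum_range (fun n => qth (hzeta e) ((n + 1 : ℕ) : ZMod (2 * 2 ^ (e + 1))) y +
      qth (hzeta e) ((n + 1 : ℕ) : ZMod (2 * 2 ^ (e + 1))) y)]
    simp only [two_mul]
  ch_onRot b d hev y hy := by
    have ho := onRot_dif (hzeta e) hev
    rcases y with i | i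
    · have hne : dif (hzeta e) b d (a i) ≠ 0 := fun h => hy (sub_eq_zero.mp h)
      have hi : i ≠ 0 := fun h => hne (h ▸ ho.1)
      have hi' : i ≠ ((2 ^ (e + 1) : ℕ) : ZMod (2 * 2 ^ (e + 1))) := fun h => hne (h ▸ ho.2.1)
      obtain ⟨k, hk⟩ := rot_pow rfl hi hi'
      rw [← qh_eq rfl] at hk
      exact ⟨k, hk⟩
    · exact absurd rfl hy

end Cfsg.Agent.Char.QuatBlock
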