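import Cfsg.Agent.Lib.Char.DihedralBlock.Combin
import Mathlib.LinearAlgebra.Dimension.Constructions
import Mathlib.LinearAlgebra.FiniteDimensional.Basic

/-!
# Integral vectors for a quaternion defect group

A vector of norm four and vectors of norms three and two, all orthogonal to a positive vector of degrees, and the
rows orthogonal to all of them.
-/

set_option autoImplicit false

namespace Cfsg.Agent.Char.QuatBlock

variable {X J : Type*} [DecidableEq X]

/-- The shape of the norm four vector. -/
theorem norm_four {S : Finset X} {w deg : X → ℤ} (hw : ∑ x ∈ S, w x * w x = 4) (hdeg : ∀ x ∈ S, 0 < deg x)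
    (hwd : ∑ x ∈ S, w x * deg x = 0) :
    (∀ x ∈ S, w x = -1 ∨ w x = 0 ∨ w x = 1) ∧ (S.filter fun x => w x ≠ 0).card = 4 := by
  by_cases hodd : ∃ x ∈ S, Odd (w x)
  · exact DihBlock.norm_four hw hodd
  exfalso
  push Not at hodd
  obtain ⟨x, hx, hne⟩ : ∃ x ∈ S, w x ≠ 0 := by
    by_contra h
    push Not at h
    rw [Finset.sum_eq_zero fun x hx => by rw [h x hx, mul_zero]] at hw
    norm_num at hw
  have h2 : ∀ y ∈ S, w y ≠ 0 → 4 ≤ w y * w y := fun y hy h => by
    obtain ⟨k, hk⟩ := Int.not_odd_iff_even.mp (hodd y hy)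
    rcases (show w y ≤ -2 ∨ 2 ≤ w y by omega) with h' | h' <;> nlinarith
  have hsplit := Finset.add_sum_erase S (fun y => w y * w y) hx
  have hnn : 0 ≤ ∑ y ∈ S.erase x, w y * w y := Finset.sum_nonneg fun y _ => mul_self_nonneg _
  have h4 := h2 x hx hne
  have h0 : ∀ y ∈ S.erase x, w y = 0 := fun y hy => mul_self_eq_zero.mp
    ((Finset.sum_eq_zero_iff_of_nonneg fun z _ => mul_self_nonneg (w z)).mp (by linarith) y hy)
  rw [← Finset.add_sum_erase S (fun y => w y * deg y) hx,
    Finset.sum_eq_zero (s := S.erase x) fun y hy => by rw [h0 y hy, zero_mul], add_zero] at hwd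
  exact mul_ne_zero hne (hdeg x hx).ne' hwd

/-- The vectors of norm two form a star. -/
theorem exists_star [Nonempty J] {S : Finset X} {o : J → X → ℤ} {deg : X → ℤ}
    (ho : ∀ j, ∑ x ∈ S, o j x * o j x = 2) (hij : ∀ i j, i ≠ j → ∑ x ∈ S, o i x * o j x = 1)
    (hdeg : ∀ x ∈ S, 0 < deg x) (hod : ∀ j, ∑ x ∈ S, o j x * deg x = 0) :
    ∃ (g0 : X) (g : J → X) (ε : ℤ), (ε = 1 ∨ ε = -1) ∧ g0 ∈ S ∧ Function.Injective g ∧
      (∀ j, g j ∈ S ∧ g j ≠ g0) ∧
      ∀ j, ∀ x ∈ S, o j x = ε * ((if x = g0 then 1 else 0) - if x = g j then 1 else 0) := by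
  classical
  have hone : ∀ j, ∃ p q, p ∈ S ∧ q ∈ S ∧ p ≠ q ∧
      ∀ x ∈ S, o j x = (if x = p then 1 else 0) - if x = q then 1 else 0 := by
    intro j
    obtain ⟨hv, hcard⟩ := small_norm (m := 2) (by norm_num) (B := S) (w := o j) (by exact_mod_cast ho j)
    obtain ⟨p, q, hpq, hT⟩ := Finset.card_eq_two.mp hcard
    have hp : p ∈ S ∧ o j p ≠ 0 :=
      Finset.mem_filter.mp (show p ∈ S.filter fun x => o j x ≠ 0 by rw [hT]; simp)
    have hq : q ∈ S ∧ o j q ≠ 0 :=
      Finset.mem_filter.mp (show q ∈ S.filter fun x => o j x ≠ 0 by rw [hT]; simp)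
    have hzero : ∀ x ∈ S, x ≠ p → x ≠ q → o j x = 0 := fun x hx h1 h2 => by
      by_contra h
      have : x ∈ ({p, q} : Finset X) := hT ▸ Finset.mem_filter.mpr ⟨hx, h⟩
      simp [h1, h2] at this
    have hsum : o j p * deg p + o j q * deg q = 0 := by
      rw [← hod j, ← Finset.sum_pair (f := fun x => o j x * deg x) hpq]
      refine Finset.sum_subset ?_ fun x hx hn => ?_
      · intro x hx
        simp only [Finset.mem_insert, Finset.mem_singleton] at hx
        rcases hx with rfl | rfl
        exacts [hp.1, hq.1]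
      · simp only [Finset.mem_insert, Finset.mem_singleton, not_or] at hn
        rw [hzero x hx hn.1 hn.2, zero_mul]
    have hdp := hdeg p hp.1
    have hdq := hdeg q hq.1
    rcases hv p hp.1 with e | e | e
    · refine ⟨q, p, hq.1, hp.1, hpq.symm, fun x hx => ?_⟩
      have eq : o j q = 1 := by
        rcases hv q hq.1 with e' | e' | e'
        · rw [e, e'] at hsum; omega
        · exact absurd e' hq.2
        · exact e'
      by_cases h1 : x = p
      · rw [h1, e, if_neg hpq, if_pos rfl]; norm_num
      · by_cases h2 : x = q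
        · rw [h2, eq, if_pos rfl, if_neg hpq.symm]; norm_num
        · rw [hzero x hx h1 h2, if_neg h2, if_neg h1]; norm_num
    · exact absurd e hp.2
    · refine ⟨p, q, hp.1, hq.1, hpq, fun x hx => ?_⟩
      have eq : o j q = -1 := by
        rcases hv q hq.1 with e' | e' | e'
        · exact e'
        · exact absurd e' hq.2
        · rw [e, e'] at hsum; omega
      by_cases h1 : x = p
      · rw [h1, e, if_neg hpq, if_pos rfl]; norm_num
      · by_cases h2 : x = q
        · rw [h2, eq, if_pos rfl, if_neg hpq.symm]; norm_num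
        · rw [hzero x hx h1 h2, if_neg h2, if_neg h1]; norm_num
  choose p q hp hq hpq hv using hone
  have hprod : ∀ i j, ∑ x ∈ S, o i x * o j x =
      ((if p i = p j then 1 else 0) + if q i = q j then (1 : ℤ) else 0) -
        ((if p i = q j then 1 else 0) + if q i = p j then 1 else 0) := by
    intro i j
    rw [Finset.sum_congr rfl fun x hx => by rw [hv i x hx]]
    simp only [sub_mul, ite_mul, one_mul, zero_mul, Finset.sum_sub_distrib, Finset.sum_ite_eq', hp, hq, if_true]
    rw [hv j _ (hp i), hv j _ (hq i)]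
    ring
  have hmeet : ∀ i j, i ≠ j → (p i = p j ∧ q i ≠ q j) ∨ (p i ≠ p j ∧ q i = q j) := by
    intro i j hne
    have h := hij i j hne
    rw [hprod] at h
    by_cases h1 : p i = p j <;> by_cases h2 : q i = q j
    · exfalso
      rw [if_pos h1, if_pos h2, if_neg fun e => hpq j (h1.symm.trans e),
        if_neg fun e => hpq j (e.symm.trans h2)] at h
      norm_num at h
    · exact Or.inl ⟨h1, h2⟩
    · exact Or.inr ⟨h1, h2⟩
    · exfalso
      rw [if_neg h1, if_neg h2] at h
      split_ifs at h <;> norm_num at h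
  obtain ⟨i0⟩ := ‹Nonempty J›
  by_cases hall : ∀ j, p j = p i0
  · refine ⟨p i0, q, 1, Or.inl rfl, hp i0, fun a b h => ?_, fun j => ⟨hq j, ?_⟩, fun j x hx => ?_⟩
    · by_contra hne
      rcases hmeet a b hne with h' | h'
      · exact h'.2 h
      · exact h'.1 ((hall a).trans (hall b).symm)
    · rw [← hall j]; exact (hpq j).symm
    · rw [hv j x hx, hall j, one_mul]
  · push Not at hall
    obtain ⟨j, hj⟩ := hall
    have hne : j ≠ i0 := fun h => hj (by rw [h])
    have hq0 : q j = q i0 := by
      rcases hmeet j i0 hne with h' | h'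
      · exact absurd h'.1 hj
      · exact h'.2
    have hallq : ∀ k, q k = q i0 := by
      intro k
      by_contra hk
      have hki : k ≠ i0 := fun h => hk (by rw [h])
      have hkj : k ≠ j := fun h => hk (by rw [h, hq0])
      have hp1 : p k = p i0 := ((hmeet k i0 hki).resolve_right fun h => hk h.2).1
      rcases hmeet k j hkj with h' | h'
      · exact hj (h'.1.symm.trans hp1)
      · exact hk (h'.2.trans hq0)
    refine ⟨q i0, p, -1, Or.inr rfl, hq i0, fun a b h => ?_, fun k => ⟨hp k, ?_⟩, fun k x hx => ?_⟩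
    · by_contra hab
      rcases hmeet a b hab with h' | h'
      · exact h'.2 ((hallq a).trans (hallq b).symm)
      · exact h'.1 h
    · rw [← hallq k]; exact hpq k
    · rw [hv k x hx, hallq k]; ring

/-- The star lies outside the support of the norm four vector, or there is one vector inside. -/
theorem star_outside [Fintype J] {S : Finset X} {w : X → ℤ} {o : J → X → ℤ} {deg : X → ℤ}
    (hw1 : ∀ x ∈ S, w x = -1 ∨ w x = 0 ∨ w x = 1) (hW : (S.filter fun x => w x ≠ 0).card = 4)
    (hdeg : ∀ x ∈ S, 0 < deg x) (hwd : ∑ x ∈ S, w x * deg x = 0) (how : ∀ j, ∑ x ∈ S, o j x * w x = 0)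
    {g0 : X} {g : J → X} {ε : ℤ} (hε : ε = 1 ∨ ε = -1) (h0 : g0 ∈ S) (hinj : Function.Injective g)
    (hg : ∀ j, g j ∈ S ∧ g j ≠ g0)
    (ho : ∀ j, ∀ x ∈ S, o j x = ε * ((if x = g0 then 1 else 0) - if x = g j then 1 else 0)) :
    (∀ j, w (g j) = w g0) ∧ (w g0 ≠ 0 → Fintype.card J ≤ 2) := by
  classical
  have hε0 : ε ≠ 0 := by rcases hε with h | h <;> simp [h]
  have hsame : ∀ j, w (g j) = w g0 := fun j => by
    have h := how j
    rw [Finset.sum_congr rfl fun x hx => by rw [ho j x hx]] at h
    simp only [mul_assoc, ← Finset.mul_sum, sub_mul, ite_mul, one_mul, zero_mul, Finset.sum_sub_distrib,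
      Finset.sum_ite_eq', h0, (hg j).1, if_true] at h
    have := (mul_eq_zero.mp h).resolve_left hε0
    omega
  refine ⟨hsame, fun hne => ?_⟩
  by_contra hcard
  set W := S.filter fun x => w x ≠ 0 with hWd
  set T := insert g0 (Finset.univ.image g) with hT
  have hTW : T ⊆ W := by
    intro x hx
    simp only [hT, Finset.mem_insert, Finset.mem_image, Finset.mem_univ, true_and] at hx
    rcases hx with rfl | ⟨j, rfl⟩
    · exact Finset.mem_filter.mpr ⟨h0, hne⟩
    · exact Finset.mem_filter.mpr ⟨(hg j).1, by rw [hsame j]; exact hne⟩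
  have hTc : 4 ≤ T.card := by
    rw [hT, Finset.card_insert_of_notMem, Finset.card_image_of_injective _ hinj, Finset.card_univ]
    · omega
    · simp only [Finset.mem_image, Finset.mem_univ, true_and, not_exists]
      exact fun j h => (hg j).2 h
  have hTeq : T = W := Finset.eq_of_subset_of_card_le hTW (by omega)
  have hconst : ∀ x ∈ W, w x = w g0 := fun x hx => by
    rw [← hTeq] at hx
    simp only [hT, Finset.mem_insert, Finset.mem_image, Finset.mem_univ, true_and] at hx
    rcases hx with rfl | ⟨j, rfl⟩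
    · rfl
    · exact hsame j
  have hsum : w g0 * ∑ x ∈ W, deg x = 0 := by
    rw [Finset.mul_sum, ← hwd]
    rw [← Finset.sum_subset (Finset.filter_subset (fun x => w x ≠ 0) S) fun x hx hn => by
      rw [not_not.mp fun h => hn (Finset.mem_filter.mpr ⟨hx, h⟩), zero_mul]]
    exact Finset.sum_congr rfl fun x hx => by rw [hconst x hx]
  refine mul_ne_zero hne ?_ hsum
  exact (Finset.sum_pos (fun x hx => hdeg x (Finset.mem_filter.mp hx).1) ⟨g0, Finset.mem_filter.mpr ⟨h0, hne⟩⟩).ne'

/-- The shapes of the vectors of norm three. -/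
theorem select_three [Fintype J] {S : Finset X} {w : X → ℤ} {u : J → X → ℤ}
    (hw1 : ∀ x ∈ S, w x = -1 ∨ w x = 0 ∨ w x = 1) (hu : ∀ j, ∑ x ∈ S, u j x * u j x = (3 : ℕ))
    (hij : ∀ i j, i ≠ j → ∑ x ∈ S, u i x * u j x = 2) (hiw : ∀ j, ∑ x ∈ S, u j x * w x = 2) :
    ∃ (P : J → Finset X) (f : J → X) (ε : J → ℤ),
      (∀ j, P j ⊆ S ∧ (P j).card = 2 ∧ (∀ x ∈ P j, w x ≠ 0) ∧ f j ∈ S ∧ w (f j) = 0 ∧ (ε j = 1 ∨ ε j = -1)) ∧
      (∀ j, ∀ x ∈ S, u j x = (if x ∈ P j then w x else 0) + if x = f j then ε j else 0) ∧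
      ((Function.Injective f ∧ ∀ i j, P i = P j) ∨
        ∀ i j, i ≠ j → f i = f j ∧ ε i = ε j ∧ (P i ∩ P j).card = 1) := by
  classical
  choose P f ε hPS hP2 hPw hfS hfw hε huf using fun j => DihBlock.agree_two hw1 (hu j) (hiw j)
  have hpair : ∀ i j, i ≠ j →
      (f i = f j ∧ ε i = ε j ∧ (P i ∩ P j).card = 1) ∨ (f i ≠ f j ∧ P i = P j) := by
    intro i j hne
    have hprod : ∀ x ∈ S, u i x * u j x =
        (if x ∈ P i ∩ P j then 1 else 0) + if x = f i then (if f i = f j then ε i * ε j else 0) else 0 := by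
      intro x hx
      rw [huf i x hx, huf j x hx]
      by_cases h1 : x = f i
      · subst h1
        have n1 : f i ∉ P i := fun h => hPw i _ h (hfw i)
        have n2 : f i ∉ P j := fun h => hPw j _ h (hfw i)
        simp [n1, n2, mul_ite]
      · by_cases h2 : x = f j
        · subst h2
          have n1 : f j ∉ P i := fun h => hPw i _ h (hfw j)
          have n2 : f j ∉ P j := fun h => hPw j _ h (hfw j)
          simp [n1, n2, h1]
        · rcases hw1 x hx with hv | hv | hv <;>
            by_cases a : x ∈ P i <;> by_cases b : x ∈ P j <;> simp [h1, h2, a, b, hv] <;>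
            exact absurd hv (hPw i x a)
    have h := hij i j hne
    rw [Finset.sum_congr rfl hprod, Finset.sum_add_distrib, Finset.sum_ite_mem, Finset.sum_const,
      nsmul_eq_mul, mul_one, Finset.inter_eq_right.mpr (Finset.inter_subset_left.trans (hPS i)),
      Finset.sum_ite_eq' S (f i), if_pos (hfS i)] at h
    have hle : (P i ∩ P j).card ≤ 2 := hP2 i ▸ Finset.card_le_card Finset.inter_subset_left
    by_cases he : f i = f j
    · rw [if_pos he] at h
      left
      rcases hε i with a | a <;> rcases hε j with b | b <;> rw [a, b] at h ⊢ <;>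
        refine ⟨he, ?_, ?_⟩ <;> omega
    · rw [if_neg he, add_zero] at h
      have hc : (P i ∩ P j).card = 2 := by exact_mod_cast h
      refine Or.inr ⟨he, ?_⟩
      have e1 := Finset.eq_of_subset_of_card_le (Finset.inter_subset_left (s₁ := P i) (s₂ := P j))
        (by rw [hc, hP2])
      have e2 := Finset.eq_of_subset_of_card_le (Finset.inter_subset_right (s₁ := P i) (s₂ := P j))
        (by rw [hc, hP2])
      exact e1.symm.trans e2
  refine ⟨P, f, ε, fun j => ⟨hPS j, hP2 j, hPw j, hfS j, hfw j, hε j⟩, huf, ?_⟩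
  by_cases hex : ∃ i j, i ≠ j ∧ f i = f j
  · obtain ⟨i, j, hne, he⟩ := hex
    right
    have hall : ∀ k, f k = f i := by
      intro k
      rcases eq_or_ne k i with rfl | hki
      · rfl
      rcases hpair k i hki with h | ⟨-, hPk⟩
      · exact h.1
      · exfalso
        have hPij : (P i ∩ P j).card = 1 := by
          rcases hpair i j hne with h | h
          · exact h.2.2
          · exact absurd he h.1
        rcases eq_or_ne k j with rfl | hkj
        · rw [hPk, Finset.inter_self, hP2] at hPij
          omega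
        · rcases hpair k j hkj with h | h
          · rcases hpair k i hki with h' | h'
            · rw [hPk, Finset.inter_self, hP2] at h'
              omega
            · exact h'.1 (h.1.trans he.symm)
          · rw [← hPk, h.2, Finset.inter_self, hP2] at hPij
            omega
    intro a b hab
    exact (hpair a b hab).resolve_right fun h => h.1 ((hall a).trans (hall b).symm)
  · left
    push Not at hex
    have hinj : Function.Injective f := fun a b h => by
      by_contra hne; exact hex a b hne h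
    refine ⟨hinj, fun i j => ?_⟩
    rcases eq_or_ne i j with rfl | hne
    · rfl
    · rcases hpair i j hne with h | h
      · exact absurd h.1 (hex i j hne)
      · exact h.2

/-- Three pairs meeting each other once and a fourth leave no signs. -/
theorem no_signs_exotic {W : Finset X} {f : X → ℤ} {t : ℤ} (hW : W.card = 4)
    (hf : ∀ x ∈ W, f x = t ∨ f x = -t) (ht : t ≠ 0) (hsum : ∑ x ∈ W, f x = 0) {P : J → Finset X} {i j k : J}
    (hP : ∀ l, P l ⊆ W ∧ (P l).card = 2 ∧ ∑ x ∈ P l, f x = 0)
    (hij : (P i ∩ P j).card = 1) (hik : (P i ∩ P k).card = 1) (hjk : (P j ∩ P k).card = 1) : False := by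
  classical
  obtain ⟨a, ha⟩ := Finset.card_eq_one.mp hij
  have ha' : a ∈ P i ∩ P j := ha ▸ Finset.mem_singleton_self a
  obtain ⟨hai, haj⟩ := Finset.mem_inter.mp ha'
  obtain ⟨b, hb⟩ : ∃ b, (P i).erase a = {b} :=
    Finset.card_eq_one.mp (by rw [Finset.card_erase_of_mem hai, (hP i).2.1])
  obtain ⟨c, hc⟩ : ∃ c, (P j).erase a = {c} :=
    Finset.card_eq_one.mp (by rw [Finset.card_erase_of_mem haj, (hP j).2.1])
  have hPi : P i = {a, b} := by rw [← Finset.insert_erase hai, hb]
  have hPj : P j = {a, c} := by rw [← Finset.insert_erase haj, hc]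
  have hba : b ≠ a := Finset.ne_of_mem_erase (hb ▸ Finset.mem_singleton_self b)
  have hca : c ≠ a := Finset.ne_of_mem_erase (hc ▸ Finset.mem_singleton_self c)
  have hbc : b ≠ c := by
    intro h
    have h1 : b ∈ P i ∩ P j := Finset.mem_inter.mpr ⟨by simp [hPi], by simp [hPj, h]⟩
    rw [ha, Finset.mem_singleton] at h1
    exact hba h1
  have h3 : ({a, b, c} : Finset X) ⊆ W := by
    intro x hx
    simp only [Finset.mem_insert, Finset.mem_singleton] at hx
    rcases hx with rfl | rfl | rfl
    · exact (hP i).1 hai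
    · exact (hP i).1 (by simp [hPi])
    · exact (hP j).1 (by simp [hPj])
  obtain ⟨d, hd⟩ : ∃ d, W \ {a, b, c} = {d} := Finset.card_eq_one.mp (by
    rw [Finset.card_sdiff_of_subset h3, hW, Finset.card_insert_of_notMem (by simp [hba.symm, hca.symm]),
      Finset.card_pair hbc])
  have hdm : d ∈ W \ {a, b, c} := hd ▸ Finset.mem_singleton_self d
  simp only [Finset.mem_sdiff, Finset.mem_insert, Finset.mem_singleton, not_or] at hdm
  obtain ⟨hdW, hda, hdb, hdc⟩ := hdm
  replace hda : d ≠ a := hda
  replace hdb : d ≠ b := hdb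
  replace hdc : d ≠ c := hdc
  have e1 : f a + f b = 0 := by have := (hP i).2.2; rwa [hPi, Finset.sum_pair hba.symm] at this
  have e2 : f a + f c = 0 := by have := (hP j).2.2; rwa [hPj, Finset.sum_pair hca.symm] at this
  have hWeq : W = {a, b, c, d} := by
    have := Finset.union_sdiff_of_subset h3
    rw [hd] at this
    rw [← this]
    ext x
    simp only [Finset.mem_union, Finset.mem_insert, Finset.mem_singleton]
    tauto
  have e3 : f d = f a := by
    have : f a + (f b + (f c + f d)) = 0 := by
      rwa [hWeq, Finset.sum_insert (by simp [hba.symm, hca.symm, hda.symm]),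
        Finset.sum_insert (by simp [hbc, hdb.symm]), Finset.sum_pair hdc.symm] at hsum
    omega
  have hfa : f a ≠ 0 := by
    rcases hf a ((hP i).1 hai) with h | h <;> rw [h] <;> simp [ht]
  -- the third pair
  obtain ⟨x, y, hxy, hPk⟩ := Finset.card_eq_two.mp (hP k).2.1
  have e4 : f x + f y = 0 := by have := (hP k).2.2; rwa [hPk, Finset.sum_pair hxy] at this
  have hxW : x ∈ W := (hP k).1 (by simp [hPk])
  have hyW : y ∈ W := (hP k).1 (by simp [hPk])
  rw [hWeq] at hxW hyW
  simp only [Finset.mem_insert, Finset.mem_singleton] at hxW hyW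
  rw [hPi, hPk] at hik
  rw [hPj, hPk] at hjk
  rcases hxW with hx | hx | hx | hx <;> rcases hyW with hy | hy | hy | hy <;> subst hx <;> subst hy <;>
    first
      | exact hxy rfl
      | (exfalso; omega)
      | simp [Finset.inter_comm, hba, hca, hbc, hda, hdb, hdc, hba.symm, hca.symm, hbc.symm, hda.symm, hdb.symm,
          hdc.symm] at hik hjk

/-- An inner pair with equal signs leaves no signs. -/
theorem no_signs_inside {W P : Finset X} {f : X → ℤ} {t : ℤ} {g0 g : X} (hW : W.card = 4) (hg0 : g0 ∈ W)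
    (hg : g ∈ W) (hne : g ≠ g0) (hf : ∀ x ∈ W, f x = t ∨ f x = -t) (ht : t ≠ 0) (hsum : ∑ x ∈ W, f x = 0)
    (heq : f g = f g0) (hP : P ⊆ W) (hP2 : P.card = 2) (hPs : ∑ x ∈ P, f x = 0)
    (hboth : g0 ∈ P ↔ g ∈ P) : False := by
  classical
  have hg0f : f g0 ≠ 0 := by rcases hf g0 hg0 with h | h <;> rw [h] <;> simp [ht]
  have hsub : ({g0, g} : Finset X) ⊆ W := by
    intro x hx
    simp only [Finset.mem_insert, Finset.mem_singleton] at hx
    rcases hx with rfl | rfl <;> assumption
  by_cases h : g0 ∈ P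
  · have hPeq : P = {g0, g} := by
      refine (Finset.eq_of_subset_of_card_le ?_ ?_).symm
      · intro x hx
        simp only [Finset.mem_insert, Finset.mem_singleton] at hx
        rcases hx with rfl | rfl
        exacts [h, hboth.mp h]
      · rw [hP2, Finset.card_pair hne.symm]
    rw [hPeq, Finset.sum_pair hne.symm, heq] at hPs
    omega
  · have hPeq : P = W \ {g0, g} := by
      refine Finset.eq_of_subset_of_card_le (fun x hx => Finset.mem_sdiff.mpr ⟨hP hx, ?_⟩) ?_
      · simp only [Finset.mem_insert, Finset.mem_singleton]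
        rintro (rfl | rfl)
        exacts [h hx, h (hboth.mpr hx)]
      · rw [Finset.card_sdiff_of_subset hsub, hW, hP2, Finset.card_pair hne.symm]
    rw [← Finset.sum_sdiff hsub, ← hPeq, hPs, zero_add, Finset.sum_pair hne.symm, heq] at hsum
    omega

/-- An orthogonal family on a set is not larger than the set. -/
theorem orth_card_le {ι : Type*} [Fintype ι] {T : Finset X} (v : ι → X → ℤ)
    (hoff : ∀ i j, i ≠ j → ∑ x ∈ T, v i x * v j x = 0) (hdiag : ∀ i, ∑ x ∈ T, v i x * v i x ≠ 0) :
    Fintype.card ι ≤ T.card := by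
  classical
  have hli : LinearIndependent ℚ fun i (x : T) => (v i x : ℚ) := by
    rw [Fintype.linearIndependent_iff]
    intro c hc j
    have h : ∑ i, c i * ((∑ x ∈ T, v i x * v j x : ℤ) : ℚ) = 0 := by
      push_cast
      simp only [← Finset.sum_coe_sort T fun x => ((v _ x : ℚ) * (v j x : ℚ)), Finset.mul_sum, ← mul_assoc]
      rw [Finset.sum_comm]
      refine Finset.sum_eq_zero fun x _ => ?_
      rw [← Finset.sum_mul]
      have := congrFun hc x
      simp only [Finset.sum_apply, Pi.smul_apply, smul_eq_mul, Pi.zero_apply] at this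
      rw [this, zero_mul]
    rw [Finset.sum_eq_single j (fun i _ hne => by rw [hoff i j hne]; simp)
      (fun h => absurd (Finset.mem_univ _) h)] at h
    exact (mul_eq_zero.mp h).resolve_right (Int.cast_ne_zero.mpr (hdiag j))
  have := hli.fintype_card_le_finrank
  rwa [Module.finrank_pi, Fintype.card_coe] at this

end Cfsg.Agent.Char.QuatBlock
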