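import Cfsg.Agent.Lib.Char.QuatBlock.Setup
import Cfsg.Agent.Lib.Char.CyclicBlockForm

/-!
# The vectors of a block with quaternion defect group

Integral coefficient vectors, their Gram matrix, and the degree of the local part, whose exact power of two is the
height.
-/

set_option autoImplicit false
set_option linter.unusedSectionVars false
set_option linter.style.haveILetI false

namespace Cfsg.Agent.Char.QuatBlock

open Cfsg QuaternionGroup
open scoped ComplexConjugate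

universe u v

variable {G : Type u} [Group G] [Fintype G]

/-- A block whose defect group has an axis, and its local data. -/
structure QB (M : Ideal AlgInt) (B : Set (IrrCharacter G)) (A : Type v) [Group A] [Fintype A] (e : ℕ) (u : G)
    [Fintype (axis u)] where
  S : LocalNil 2 M B (axis u) A
  hdef : blockDefect 2 S.f = blockDefect 2 B
  F : AxisFamily A e
  hu : ((S.d F.h : axis u) : G) = u

open scoped Classical in
theorem exists_qb {M : Ideal AlgInt} (hM : IsPModular 2 M) {B : Set (IrrCharacter G)} (hB : IsPBlock M B)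
    {D : Subgroup G} (hD : IsDefectGroup 2 M B D) {A : Type v} [Group A] [Fintype A] {e : ℕ} (F : AxisFamily A e)
    (ι : A ≃* D) : ∃ u : G, ∀ [Fintype (axis u)], Nonempty (QB M B A e u) :=
  ⟨_, fun {_} => (exists_local hM hB hD F ι rfl).elim fun S hS => ⟨⟨S, hS.1, F, hS.2⟩⟩⟩

theorem two_mul_pow (e : ℕ) : (2 : ℕ) ^ (e + 1) = 2 * 2 ^ e := pow_succ' 2 e

variable {M : Ideal AlgInt} {B : Set (IrrCharacter G)} {A : Type v} [Group A] [Fintype A] {e : ℕ} {u : G}
  [Fintype (axis u)] (Q : QB M B A e u)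

namespace QB

theorem hM (Q : QB M B A e u) : IsPModular 2 M := Q.S.hM

theorem hB (Q : QB M B A e u) : IsPBlock M B := Q.S.hB

theorem orderOf_u (Q : QB M B A e u) : orderOf u = 4 := by
  rw [← Q.hu, Subgroup.orderOf_coe, Q.S.orderOf_d, Q.F.orderOf_h]

theorem fused (Q : QB M B A e u) (x t : G) (h : Gd u x) (h' : Gd u (t * x * t⁻¹)) : t ∈ axis u :=
  gd_fused Q.orderOf_u h h'

theorem defect (Q : QB M B A e u) : blockDefect 2 B = e + 3 := by
  have h := Q.S.pow_defect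
  rw [Q.hdef, Q.F.hcard] at h
  exact Nat.pow_right_injective le_rfl h

/-- The difference of two characters of degree two. -/
noncomputable def dif (b c : ℕ) : A → ℂ := Q.F.ch b - Q.F.ch c

theorem dif_isClass (b c : ℕ) : IsClassFunction A (Q.dif b c) := fun g k => by
  simp only [dif, Pi.sub_apply, isClassFunction_character (Q.F.ch_char _) g k]

theorem supp_dif {b c : ℕ} (h : Even (b + c)) : Q.S.Supp (Gd u) (Q.dif b c) := by
  intro x w y hy hne
  obtain ⟨k, hk⟩ := Q.F.ch_onRot b c h y fun e => hne (sub_eq_zero.mpr e)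
  refine ⟨k, ?_⟩
  have h1 : ((w * ppt 2 x * w⁻¹) ^ 2 ^ k : axis u) = Q.S.d (y ^ 2 ^ k) := by
    rw [hy]
    simp only [LocalNil.d, map_pow, SubgroupClass.coe_pow]
  rw [conj_pow] at h1
  have h2 : (w : G) * ppt 2 (x : G) ^ 2 ^ k * (w : G)⁻¹ = u ∨ (w : G) * ppt 2 (x : G) ^ 2 ^ k * (w : G)⁻¹ = u⁻¹ := by
    have h3 := congrArg (fun x : axis u => (x : G)) h1
    simp only [Subgroup.coe_mul, SubgroupClass.coe_pow, Subgroup.coe_inv] at h3
    rw [ppt_coe Nat.prime_two, h3]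
    rcases hk with h | h <;> rw [h]
    · exact Or.inl Q.hu
    · refine Or.inr ?_
      conv_rhs => rw [← Q.hu]
      simp [LocalNil.d]
  have hw := (axis u).inv_mem w.2
  set y := ppt 2 (x : G) ^ 2 ^ k
  rcases h2 with h | h
  · have e1 : y = (w : G)⁻¹ * u * (w : G)⁻¹⁻¹ :=
      (by group : y = (w : G)⁻¹ * ((w : G) * y * (w : G)⁻¹) * (w : G)⁻¹⁻¹).trans
        (congrArg (fun x => (w : G)⁻¹ * x * (w : G)⁻¹⁻¹) h)
    rw [e1]
    exact mem_axis.mp hw
  · have e1 : y = ((w : G)⁻¹ * u * (w : G)⁻¹⁻¹)⁻¹ := by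
      refine (by group : y = (w : G)⁻¹ * ((w : G) * y * (w : G)⁻¹) * (w : G)⁻¹⁻¹).trans
        ((congrArg (fun x => (w : G)⁻¹ * x * (w : G)⁻¹⁻¹) h).trans ?_)
      group
    rw [e1]
    rcases mem_axis.mp hw with h' | h' <;> rw [h']
    · exact Or.inr rfl
    · exact Or.inl (inv_inv u)

/-- The coefficient of a character of degree two. -/
noncomputable def cn (j : ℕ) (χ : IrrCharacter G) : ℤ :=
  ((Q.S.v_nat (Q.F.ch_char j) χ).choose : ℤ)

theorem cn_spec (j : ℕ) (χ : IrrCharacter G) : Q.S.v (Q.F.ch j) χ = (Q.cn j χ : ℂ) := by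
  rw [cn, Int.cast_natCast]
  exact (Q.S.v_nat (Q.F.ch_char j) χ).choose_spec

theorem v_dif (b c : ℕ) (χ : IrrCharacter G) :
    Q.S.v (Q.dif b c) χ = ((Q.cn b χ - Q.cn c χ : ℤ) : ℂ) := by
  rw [dif, LocalNil.v_sub, cn_spec, cn_spec, Int.cast_sub]

open scoped Classical in
theorem gram {b c b' c' : ℕ} (h : Even (b + c)) (h' : Even (b' + c')) :
    ((∑ χ ∈ bset B, (Q.cn b χ - Q.cn c χ) * (Q.cn b' χ - Q.cn c' χ) : ℤ) : ℂ) =
      classInner (Q.dif b c) (Q.dif b' c') := by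
  rw [← Q.S.parseval Q.fused (Q.dif_isClass b c) (Q.supp_dif h)
    (Q.dif_isClass b' c') (Q.supp_dif h'), Int.cast_sum]
  refine Finset.sum_congr rfl fun χ _ => ?_
  rw [Int.cast_mul, v_dif, v_dif, map_intCast]

theorem regular_zero {b c : ℕ} (h : Even (b + c)) {g : G} (hg : ¬ 2 ∣ orderOf g) :
    ∑ χ ∈ bset B, ((Q.cn b χ - Q.cn c χ : ℤ) : ℂ) * (χ : G → ℂ) g = 0 := by
  have hs := Q.supp_dif h
  rw [Finset.sum_congr rfl fun χ _ => by rw [← v_dif], Q.S.sum_v_value Q.fused (Q.dif_isClass b c) hs g]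
  refine Q.S.L_eq_zero (Q.dif_isClass b c) hs fun t ht => ?_
  obtain ⟨k, hk⟩ := ht
  have hreg : ¬ 2 ∣ orderOf (t⁻¹ * g * t) := by
    rwa [show t⁻¹ * g * t = MulAut.conj t⁻¹ g by simp, MulEquiv.orderOf_eq]
  rw [(ppt_eq_one_iff Nat.prime_two _).mpr hreg, one_pow] at hk
  have := Q.orderOf_u
  rcases hk with e' | e'
  · rw [← e', orderOf_one] at this; omega
  · rw [← inv_inv u, ← e', inv_one, orderOf_one] at this; omega

theorem deg_orth {b c : ℕ} (h : Even (b + c)) :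
    ∑ χ ∈ bset B, (Q.cn b χ - Q.cn c χ) * (charDegree (χ : G → ℂ) : ℤ) = 0 := by
  apply Int.cast_injective (α := ℂ)
  rw [Int.cast_zero, ← Q.regular_zero h (g := 1) (by simp), Int.cast_sum]
  refine Finset.sum_congr rfl fun χ _ => ?_
  rw [char_one_eq_deg (irr_isCharacter χ.2)]
  push_cast
  rfl

theorem wI_orth {b c : ℕ} (h : Even (b + c)) (r : IrrCharacter G) :
    ∑ χ ∈ bset B, (Q.cn b χ - Q.cn c χ) * wI 2 B χ r = 0 :=
  CyclicForm.sum_wI_eq_zero Q.hM Q.hB (bset B) (fun _ h => mem_bset.mp h) _ (fun _ hg => Q.regular_zero h hg) r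

/-- The norm four vector. -/
noncomputable def wv (χ : IrrCharacter G) : ℤ := Q.cn 0 χ - Q.cn (2 ^ (e + 1)) χ

/-- The norm three vectors. -/
noncomputable def uv (i : Fin (2 ^ e - 1)) (χ : IrrCharacter G) : ℤ := Q.cn 0 χ - Q.cn (2 * ((i : ℕ) + 1)) χ

/-- The norm two vectors. -/
noncomputable def ov (i : Fin (2 ^ e - 1)) (χ : IrrCharacter G) : ℤ := Q.cn (2 * ((i : ℕ) + 1) + 1) χ - Q.cn 1 χ

theorem even_wv (e : ℕ) : Even (0 + 2 ^ (e + 1)) := by rw [zero_add, pow_succ]; exact even_two.mul_left _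

theorem even_uv (k : ℕ) : Even (0 + 2 * k) := by rw [zero_add]; exact even_two_mul k

theorem even_ov (k : ℕ) : Even (2 * k + 1 + 1) := ⟨k + 1, by ring⟩

theorem inner_dif {b c b' c' : ℕ} (hb : b ≤ 2 ^ (e + 1)) (hc : c ≤ 2 ^ (e + 1)) (hb' : b' ≤ 2 ^ (e + 1))
    (hc' : c' ≤ 2 ^ (e + 1)) (h : Even (b + c)) (h' : Even (b' + c')) :
    ∑ χ ∈ bset B, (Q.cn b χ - Q.cn c χ) * (Q.cn b' χ - Q.cn c' χ) =
      ((if b = b' then (if b = 0 ∨ b = 2 ^ (e + 1) then (2 : ℤ) else 1) else 0) -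
          if b = c' then (if b = 0 ∨ b = 2 ^ (e + 1) then 2 else 1) else 0) -
        ((if c = b' then (if c = 0 ∨ c = 2 ^ (e + 1) then 2 else 1) else 0) -
          if c = c' then (if c = 0 ∨ c = 2 ^ (e + 1) then 2 else 1) else 0) := by
  apply Int.cast_injective (α := ℂ)
  rw [Q.gram h h', dif, dif, classInner_sub_left, classInner_sub_right, classInner_sub_right, Q.F.ch_inner b b' hb hb',
    Q.F.ch_inner b c' hb hc', Q.F.ch_inner c b' hc hb', Q.F.ch_inner c c' hc hc']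
  push_cast
  rfl

theorem grams :
    (∑ χ ∈ bset B, Q.wv χ * Q.wv χ = 4) ∧
    (∀ i, ∑ χ ∈ bset B, Q.uv i χ * Q.uv i χ = (3 : ℕ)) ∧
    (∀ i j, i ≠ j → ∑ χ ∈ bset B, Q.uv i χ * Q.uv j χ = 2) ∧
    (∀ i, ∑ χ ∈ bset B, Q.uv i χ * Q.wv χ = 2) ∧
    (∀ i, ∑ χ ∈ bset B, Q.ov i χ * Q.ov i χ = 2) ∧
    (∀ i j, i ≠ j → ∑ χ ∈ bset B, Q.ov i χ * Q.ov j χ = 1) ∧
    (∀ i, ∑ χ ∈ bset B, Q.ov i χ * Q.wv χ = 0) ∧
    (∀ i j, ∑ χ ∈ bset B, Q.ov i χ * Q.uv j χ = 0) := by
  have hp := two_mul_pow e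
  have hp0 := Nat.one_le_two_pow (n := e)
  have hw := even_wv e
  refine ⟨?_, fun i => ?_, fun i j hij => ?_, fun i => ?_, fun i => ?_, fun i j hij => ?_, fun i => ?_,
    fun i j => ?_⟩ <;> simp only [wv, uv, ov]
  · rw [Q.inner_dif (by omega) (by omega) (by omega) (by omega) hw hw]
    repeat' first | rw [if_pos (by omega)] | rw [if_neg (by omega)]
    all_goals norm_num
  · have := i.2
    rw [Q.inner_dif (by omega) (by omega) (by omega) (by omega) (even_uv _) (even_uv _)]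
    repeat' first | rw [if_pos (by omega)] | rw [if_neg (by omega)]
    all_goals norm_num
  · have := i.2
    have := j.2
    have : (i : ℕ) ≠ j := fun h => hij (Fin.ext h)
    rw [Q.inner_dif (by omega) (by omega) (by omega) (by omega) (even_uv _) (even_uv _)]
    repeat' first | rw [if_pos (by omega)] | rw [if_neg (by omega)]
    all_goals norm_num
  · have := i.2
    rw [Q.inner_dif (by omega) (by omega) (by omega) (by omega) (even_uv _) hw]
    repeat' first | rw [if_pos (by omega)] | rw [if_neg (by omega)]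
    all_goals norm_num
  · have := i.2
    rw [Q.inner_dif (by omega) (by omega) (by omega) (by omega) (even_ov _) (even_ov _)]
    repeat' first | rw [if_pos (by omega)] | rw [if_neg (by omega)]
    all_goals norm_num
  · have := i.2
    have := j.2
    have : (i : ℕ) ≠ j := fun h => hij (Fin.ext h)
    rw [Q.inner_dif (by omega) (by omega) (by omega) (by omega) (even_ov _) (even_ov _)]
    repeat' first | rw [if_pos (by omega)] | rw [if_neg (by omega)]
    all_goals norm_num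
  · have := i.2
    rw [Q.inner_dif (by omega) (by omega) (by omega) (by omega) (even_ov _) hw]
    repeat' first | rw [if_pos (by omega)] | rw [if_neg (by omega)]
    all_goals norm_num
  · have := i.2
    have := j.2
    rw [Q.inner_dif (by omega) (by omega) (by omega) (by omega) (even_ov _) (even_uv _)]
    repeat' first | rw [if_pos (by omega)] | rw [if_neg (by omega)]
    all_goals norm_num

theorem sum_pairs {A : Type*} [AddCommMonoid A] (f : ℕ → A) (q : ℕ) :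
    ∑ j ∈ Finset.range (2 * q + 1), f (j + 1) =
      f 1 + ∑ i ∈ Finset.range q, (f (2 * (i + 1)) + f (2 * (i + 1) + 1)) := by
  induction q with
  | zero => simp
  | succ q ih =>
    rw [show 2 * (q + 1) + 1 = 2 * q + 1 + 1 + 1 by ring, Finset.sum_range_succ, Finset.sum_range_succ, ih,
      Finset.sum_range_succ _ q]
    simp only [add_assoc]
    rfl

/-- The degree of the local part. -/
noncomputable def dg (χ : IrrCharacter G) : ℤ :=
  2 ^ (e + 1) * (Q.cn 0 χ + Q.cn 1 χ) - Q.wv χ - 2 * ∑ i, Q.uv i χ + 2 * ∑ i, Q.ov i χ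

theorem v_deg [DecidableEq A] (χ : IrrCharacter G) :
    Q.S.v (fun y => if y = 1 then (Nat.card A : ℂ) else 0) χ = (Q.dg χ : ℂ) := by
  have hp := two_mul_pow e
  have hp0 := Nat.one_le_two_pow (n := e)
  rw [show (fun y : A => if y = 1 then (Nat.card A : ℂ) else 0) = (1 : ℂ) • Q.F.ch 0 +
      (1 : ℂ) • Q.F.ch (2 ^ (e + 1)) + ∑ j ∈ Finset.range (2 ^ (e + 1) - 1), (2 : ℂ) • Q.F.ch (j + 1) from
    funext fun y => by
      simp only [Pi.add_apply, Finset.sum_apply, Pi.smul_apply, smul_eq_mul, one_mul]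
      exact Q.F.ch_sum y]
  rw [LocalNil.v, ← Q.S.thL_apply]
  simp only [map_add, map_sum, map_smul, classInner_add_left, classInner_sum_left, classInner_smul_left,
    LocalNil.thL_apply]
  simp only [show ∀ (μ : A → ℂ), classInner (Q.S.th μ) (fun c : axis u => (χ : G → ℂ) (c : G)) = Q.S.v μ χ from
    fun _ => rfl, cn_spec, one_mul, two_mul]
  rw [show 2 ^ (e + 1) - 1 = 2 * (2 ^ e - 1) + 1 by omega,
    sum_pairs (fun n => ((Q.cn n χ : ℤ) : ℂ) + ((Q.cn n χ : ℤ) : ℂ))]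
  simp only [dg, wv, uv, ov, Finset.sum_sub_distrib, Finset.sum_const, Finset.card_univ, Fintype.card_fin,
    Finset.sum_add_distrib]
  rw [Fin.sum_univ_eq_sum_range (fun n => Q.cn (2 * (n + 1)) χ),
    Fin.sum_univ_eq_sum_range (fun n => Q.cn (2 * (n + 1) + 1) χ)]
  simp only [nsmul_eq_mul]
  have hq : ((2 ^ e - 1 : ℕ) : ℂ) = (2 : ℂ) ^ e - 1 := by rw [Nat.cast_sub hp0]; norm_num
  push_cast
  rw [hq, pow_succ]
  ring

theorem dg_odd_iff (χ : IrrCharacter G) : Odd (Q.dg χ) ↔ Odd (Q.wv χ) := by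
  rw [dg, show (2 : ℤ) ^ (e + 1) * (Q.cn 0 χ + Q.cn 1 χ) - Q.wv χ - 2 * ∑ i, Q.uv i χ + 2 * ∑ i, Q.ov i χ =
    2 * (2 ^ e * (Q.cn 0 χ + Q.cn 1 χ) - ∑ i, Q.uv i χ + ∑ i, Q.ov i χ) - Q.wv χ by rw [pow_succ]; ring,
    Int.odd_sub, iff_false_left (Int.not_odd_iff_even.mpr (even_two_mul _)), Int.not_even_iff_odd]

open scoped Classical in
/-- The exact power of two in the degree of the local part. -/
theorem dg_exact (Q : QB M B A e u) (hx : ∃ χ ∈ B, Odd (Q.wv χ)) :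
    (∀ χ ∈ B, Odd (Q.wv χ) → blockHeight 2 B (χ : G → ℂ) = 0) ∧
      ∀ χ ∈ B, (2 : ℤ) ^ blockHeight 2 B (χ : G → ℂ) ∣ Q.dg χ ∧
        ¬ (2 : ℤ) ^ (blockHeight 2 B (χ : G → ℂ) + 1) ∣ Q.dg χ := by
  have hP := pmod_prime Q.hM
  set F := indFun (axis u) (blockCoeff Q.S.f) with hF
  have hFI := intClassFun_indFun hP (isIntClassFun_blockCoeff Q.hM Q.S.hf)
  -- the relation
  obtain ⟨cψ, hcψ, hdψ⟩ := deg_eq_pow_mul Nat.prime_two Q.S.ψ.2
  set cI := (axis u).index / 2 ^ (axis u).index.factorization 2 with hcI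
  have hcI2 : ¬ 2 ∣ cI := Nat.not_dvd_ordCompl Nat.prime_two Subgroup.index_ne_zero_of_finite
  have hexp : dmin 2 Q.S.f + (axis u).index.factorization 2 = dmin 2 B := by
    have h1 := dmin_add_defect (p := 2) (block_nonempty hP Q.S.hf)
    have h2 := dmin_add_defect (p := 2) (block_nonempty hP Q.hB)
    have h3 : (Nat.card G).factorization 2 = (Nat.card (axis u)).factorization 2 + (axis u).index.factorization 2 := by
      rw [← (axis u).card_mul_index, Nat.factorization_mul Nat.card_pos.ne' Subgroup.index_ne_zero_of_finite]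
      rfl
    rw [Q.hdef] at h1
    omega
  have hrel : ∀ χ ∈ B, ∃ c1 c2 : ℕ, ¬ 2 ∣ c1 ∧ ¬ 2 ∣ c2 ∧
      ((Q.dg χ * c1 : ℤ) : ℂ) = (2 : ℂ) ^ blockHeight 2 B (χ : G → ℂ) * (lam (χ : G → ℂ) F * c2) := by
    intro χ hχ
    obtain ⟨cχ, hcχ, hdχ⟩ := deg_eq_pow_mul Nat.prime_two χ.2
    refine ⟨cψ * cI, cχ, Nat.prime_two.not_dvd_mul hcψ hcI2, hcχ, ?_⟩
    have h := Q.S.v_delta χ
    rw [v_deg, char_one_eq_deg (irr_isCharacter χ.2), char_one_eq_deg (irr_isCharacter Q.S.ψ.2), hdψ, hdχ,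
      dexp_eq_height_add hχ, (blockHeight_eq_zero_iff Q.S.hψ).mp Q.S.hψ0, ← hexp, ← hF,
      show ((axis u).index : ℂ) = (2 : ℂ) ^ (axis u).index.factorization 2 * (cI : ℂ) by
        rw [hcI, show ((2 : ℂ)) = ((2 : ℕ) : ℂ) by norm_num, ← Nat.cast_pow, ← Nat.cast_mul,
          Nat.ordProj_mul_ordCompl_eq_self]] at h
    push_cast at h ⊢
    have h0 : (2 : ℂ) ^ dmin 2 Q.S.f * (2 : ℂ) ^ (axis u).index.factorization 2 ≠ 0 :=
      mul_ne_zero (pow_ne_zero _ two_ne_zero) (pow_ne_zero _ two_ne_zero)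
    refine mul_left_cancel₀ h0 ?_
    rw [pow_add (2 : ℂ), pow_add (2 : ℂ)] at h
    linear_combination h
  have h2I : MemLocalIdeal M (2 : ℂ) := by exact_mod_cast memLI_p Q.hM
  have hR : ∀ χ : IrrCharacter G, MemLocalRing M (lam (χ : G → ℂ) F) := fun χ => memLR_lam hP χ.2 hFI.1 hFI.2
  have hev : ∀ (k c : ℕ) (χ : IrrCharacter G), MemLocalIdeal M ((2 : ℂ) ^ (k + 1) * (lam (χ : G → ℂ) F * c)) :=
    fun k c χ => by
      rw [pow_succ', mul_assoc]
      exact memLI_mul_right hP h2I (memLR_mul hP (memLR_pow hP (by exact_mod_cast memLR_natCast hP 2) k)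
        (memLR_mul hP (hR χ) (memLR_natCast hP c)))
  have hodd0 : ∀ χ ∈ B, Odd (Q.wv χ) →
      blockHeight 2 B (χ : G → ℂ) = 0 ∧ ¬ MemLocalIdeal M (lam (χ : G → ℂ) F) := by
    intro χ hχ ho
    obtain ⟨c1, c2, hc1, hc2, he⟩ := hrel χ hχ
    have hno : ¬ MemLocalIdeal M ((Q.dg χ * c1 : ℤ) : ℂ) := fun h => by
      have h' := (memLI_intCast_iff Q.hM _).mp h
      rcases (Int.prime_two.dvd_mul).mp h' with h1 | h1
      · exact Int.not_even_iff_odd.mpr ((Q.dg_odd_iff χ).mpr ho) (even_iff_two_dvd.mpr h1)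
      · exact hc1 (Int.natCast_dvd_natCast.mp h1)
    rw [he] at hno
    have h0 : blockHeight 2 B (χ : G → ℂ) = 0 := by
      by_contra hne
      obtain ⟨k, hk⟩ := Nat.exists_eq_succ_of_ne_zero hne
      rw [hk] at hno
      exact hno (hev k c2 χ)
    rw [h0, pow_zero, one_mul] at hno
    exact ⟨h0, fun h => hno (memLI_mul_right hP h (memLR_natCast hP _))⟩
  refine ⟨fun χ hχ ho => (hodd0 χ hχ ho).1, ?_⟩
  obtain ⟨χ0, hχ0, ho⟩ := hx
  intro χ hχ
  have hunit : ¬ MemLocalIdeal M (lam (χ : G → ℂ) F) := fun h => (hodd0 χ0 hχ0 ho).2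
    (memLI_congr hP (lam_congr hP χ0.2 χ.2 (block_sameBlock hP Q.hB hχ0 hχ) hFI.1 hFI.2) h)
  obtain ⟨c1, c2, hc1, hc2, he⟩ := hrel χ hχ
  set k := blockHeight 2 B (χ : G → ℂ)
  have hc1z : ¬ (2 : ℤ) ∣ (c1 : ℤ) := fun h => hc1 (Int.natCast_dvd_natCast.mp h)
  have hu2 : ¬ MemLocalIdeal M (lam (χ : G → ℂ) F * c2) := fun h =>
    (memLI_mul_mem hP (hR χ) (memLR_natCast hP _) h).elim hunit fun h' => hc2 ((memLI_natCast_iff Q.hM _).mp h')
  set D := Q.dg χ * c1 with hD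
  have hD0 : D ≠ 0 := fun h => by
    rw [h, Int.cast_zero] at he
    exact hu2 (by rw [(mul_eq_zero.mp he.symm).resolve_left (pow_ne_zero _ two_ne_zero)]; exact memLI_zero hP)
  have hdvd : ∀ i, i ≤ k → (2 : ℤ) ^ i ∣ D := by
    intro i
    induction i with
    | zero => intro _; exact one_dvd D
    | succ i ih =>
      intro hi
      obtain ⟨t, ht⟩ := ih (by omega)
      obtain ⟨j, hj⟩ : ∃ j, k = i + (j + 1) := ⟨k - i - 1, by omega⟩
      have e1 : (t : ℂ) = (2 : ℂ) ^ (j + 1) * (lam (χ : G → ℂ) F * c2) := by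
        refine mul_left_cancel₀ (pow_ne_zero i (two_ne_zero (α := ℂ))) ?_
        rw [ht, hj] at he
        push_cast at he
        rw [he, pow_add, mul_assoc]
      obtain ⟨t', rfl⟩ : (2 : ℤ) ∣ t := (memLI_intCast_iff Q.hM _).mp (e1 ▸ hev j c2 χ)
      exact ⟨t', by rw [ht, pow_succ]; ring⟩
  have hnot : ¬ (2 : ℤ) ^ (k + 1) ∣ D := by
    rintro ⟨t, ht⟩
    refine hu2 ?_
    have e1 : (2 : ℂ) * t = lam (χ : G → ℂ) F * c2 := by
      refine mul_left_cancel₀ (pow_ne_zero k (two_ne_zero (α := ℂ))) ?_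
      rw [← he, ht]
      push_cast
      rw [pow_succ]
      ring
    rw [← e1]
    exact memLI_mul_right hP h2I (memLR_intCast hP t)
  refine ⟨?_, fun h => hnot (h.mul_right _)⟩
  exact (Int.isCoprime_iff_gcd_eq_one.mpr (by
    rw [Int.gcd_eq_natAbs]
    simpa using Nat.Coprime.pow_left k ((Nat.prime_two.coprime_iff_not_dvd).mpr hc1))).dvd_of_dvd_mul_right
    (hdvd k le_rfl)

end QB

end Cfsg.Agent.Char.QuatBlock
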