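import Cfsg.Agent.Lib.Char.QuatBlock.Transfer

/-!
# The invariants of a block with quaternion defect group
-/

set_option autoImplicit false
set_option linter.unusedSectionVars false
set_option linter.style.haveILetI false

namespace Cfsg.Agent.Char.QuatBlock

open Cfsg QuaternionGroup

universe u

variable {G : Type u} [Group G] [Fintype G] {M : Ideal AlgInt} {B : Set (IrrCharacter G)}

open scoped Classical in
/-- The invariants. -/
theorem invariants (hM : IsPModular 2 M) (hB : IsPBlock M B) {D : Subgroup G} (hD : IsDefectGroup 2 M B D)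
    {n : ℕ} (hn : 3 ≤ n) (hq : Nonempty (D ≃* QuaternionGroup (2 ^ (n - 2)))) :
    1 ≤ blockRank 2 B ∧ blockRank 2 B ≤ 3 ∧ Nat.card B = blockRank 2 B + 2 ^ (n - 2) + 2 ∧
      Nat.card {χ : IrrCharacter G // χ ∈ B ∧ blockHeight 2 B (χ : G → ℂ) = 0} = 4 ∧
      (∀ χ ∈ B, blockHeight 2 B (χ : G → ℂ) = 0 ∨ blockHeight 2 B (χ : G → ℂ) = 1 ∨
        blockHeight 2 B (χ : G → ℂ) = n - 2) ∧
      (4 ≤ n → Nat.card {χ : IrrCharacter G // χ ∈ B ∧ blockHeight 2 B (χ : G → ℂ) = 1} = 2 ^ (n - 2) - 1) := by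
  obtain ⟨ι⟩ := hq
  obtain ⟨e, rfl⟩ : ∃ e, n = e + 3 := ⟨n - 3, by omega⟩
  simp only [show e + 3 - 2 = e + 1 by omega] at ι ⊢
  obtain ⟨u, hu⟩ := exists_qb hM hB hD (family e) ι.symm
  haveI : Fintype (axis u) := Fintype.ofFinite _
  obtain ⟨Q⟩ := hu
  have hS := Q.shape
  have hgap : Nat.card B = blockRank 2 B + 2 ^ (e + 1) + 2 := by
    have := gap hM hB hD ι.symm
    exact_mod_cast this
  have hl := KleinBlock.rank_pos hM hB
  have hcov : Nat.card B = 4 + Q.us.card + Q.os.card + Q.zs.card := (CentralClass.natCard_eq_bset B).trans hS.cover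
  have hp : (2 : ℕ) ^ (e + 1) = 2 * 2 ^ e := pow_succ' 2 e
  have hp1 := Nat.one_le_two_pow (n := e)
  have hgood : Q.Good := by
    rcases hS.cases with h | ⟨-, hz, hle, -⟩
    · exact h
    · rw [hz, Finset.card_empty] at hcov
      omega
  have hos0 : e = 0 → Q.os.card = 0 := fun he => Finset.card_eq_zero.mpr
    (Finset.eq_empty_of_forall_notMem fun χ h => by
      obtain ⟨-, -, i, -⟩ := Q.mem_os.mp h
      have := i.2
      simp [he] at this)
  have hzle := hS.zs_le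
  have hlz : blockRank 2 B ≤ 3 := by
    rw [hgood.1] at hcov
    rcases Nat.eq_zero_or_pos e with he | he
    · have h1 : 2 ^ e = 1 := by rw [he, pow_zero]
      rw [hos0 he, h1] at hcov
      rw [if_pos he] at hzle
      omega
    · rw [hgood.2.1 he] at hcov
      rw [if_neg he.ne'] at hzle
      omega
  have hh : ∀ χ ∈ B, (χ ∈ Q.xs ∧ blockHeight 2 B (χ : G → ℂ) = 0) ∨
      ((χ ∈ Q.us ∨ χ ∈ Q.os) ∧ blockHeight 2 B (χ : G → ℂ) = 1) ∨
      (χ ∈ Q.zs ∧ blockHeight 2 B (χ : G → ℂ) = e + 1) := by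
    intro χ hχ
    by_cases hw : Q.wv χ = 0
    · by_cases hz : χ ∈ Q.zs
      · exact Or.inr (Or.inr ⟨hz, (Q.row_zs hz).1⟩)
      · refine Or.inr (Or.inl ⟨?_, hS.h_one χ hχ hw hz⟩)
        by_cases h1 : ∃ i, Q.uv i χ ≠ 0
        · exact Or.inl (Q.mem_us.mpr ⟨hχ, hw, h1⟩)
        · by_cases h2 : ∃ i, Q.ov i χ ≠ 0
          · exact Or.inr (Q.mem_os.mpr ⟨hχ, hw, h2⟩)
          · push Not at h1 h2
            exact absurd (Q.mem_zs.mpr ⟨hχ, hw, h1, h2⟩) hz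
    · have hx := Q.mem_xs.mpr ⟨hχ, hw⟩
      exact Or.inl ⟨hx, Q.height_xs hx⟩
  refine ⟨hl, hlz, hgap, ?_, fun χ hχ => ?_, fun he4 => ?_⟩
  · rw [Nat.subtype_card Q.xs fun χ => ?_, Q.wv_shape.2]
    exact ⟨fun h => ⟨(Q.mem_xs.mp h).1, Q.height_xs h⟩, fun ⟨h, h0⟩ => by
      rcases hh χ h with ⟨h', -⟩ | ⟨-, h'⟩ | ⟨-, h'⟩
      · exact h'
      all_goals omega⟩
  · rcases hh χ hχ with ⟨-, h⟩ | ⟨-, h⟩ | ⟨-, h⟩
    exacts [Or.inl h, Or.inr (Or.inl h), Or.inr (Or.inr h)]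
  · have he : 1 ≤ e := by omega
    rw [Nat.subtype_card (Q.us ∪ Q.os) fun χ => ?_, Finset.card_union_of_disjoint
      (Finset.disjoint_left.mpr hS.disj), hgood.1, hgood.2.1 he]
    · omega
    rw [Finset.mem_union]
    constructor
    · intro h
      have hm : χ ∈ B ∧ Q.wv χ = 0 ∧ χ ∉ Q.zs := by
        rcases h with h | h
        · obtain ⟨hB', hw, i, hi⟩ := Q.mem_us.mp h
          exact ⟨hB', hw, fun h' => hi ((Q.mem_zs.mp h').2.2.1 i)⟩
        · obtain ⟨hB', hw, i, hi⟩ := Q.mem_os.mp h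
          exact ⟨hB', hw, fun h' => hi ((Q.mem_zs.mp h').2.2.2 i)⟩
      exact ⟨hm.1, hS.h_one χ hm.1 hm.2.1 hm.2.2⟩
    · rintro ⟨h, h1⟩
      rcases hh χ h with ⟨-, h'⟩ | ⟨h', -⟩ | ⟨-, h'⟩
      · omega
      · exact h'
      · omega

end Cfsg.Agent.Char.QuatBlock
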