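import Cfsg.Agent.Lib.Char.QuatBlock.Shape

/-!
# Two characters of large height

When two characters have the large height the rank is three, and no column of norm four which is orthogonal to the
vectors and to the rows is even at these two.
-/

set_option autoImplicit false
set_option linter.unusedSectionVars false
set_option linter.style.haveILetI false

namespace Cfsg.Agent.Char.QuatBlock

open Cfsg

universe u v

variable {G : Type u} [Group G] [Fintype G]
variable {M : Ideal AlgInt} {B : Set (IrrCharacter G)} {A : Type v} [Group A] [Fintype A] {e : ℕ} {u : G}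
  [Fintype (axis u)] (Q : QB M B A e u)

namespace QB

/-- Orthogonality to the vectors. -/
def Perp (Q : QB M B A e u) (X : IrrCharacter G → ℤ) : Prop :=
  (∑ χ ∈ bset B, Q.wv χ * X χ = 0) ∧ (∀ i, ∑ χ ∈ bset B, Q.uv i χ * X χ = 0) ∧
    ∀ i, ∑ χ ∈ bset B, Q.ov i χ * X χ = 0

theorem perp_row (Q : QB M B A e u) (φ : IrrCharacter G) : Q.Perp fun χ => wI 2 B φ χ := by
  have h : ∀ {b c : ℕ}, Even (b + c) → ∑ χ ∈ bset B, (Q.cn b χ - Q.cn c χ) * wI 2 B φ χ = 0 := fun hbc => by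
    rw [← Q.wI_orth hbc φ]
    exact Finset.sum_congr rfl fun χ _ => by rw [wI_symm Q.hM φ χ]
  exact ⟨h (even_wv e), fun i => h (even_uv _), fun i => h (even_ov _)⟩

theorem perp_comb (Q : QB M B A e u) {X Y : IrrCharacter G → ℤ} (hX : Q.Perp X) (hY : Q.Perp Y) (a b : ℤ) :
    Q.Perp fun χ => a * X χ - b * Y χ := by
  have h : ∀ F : IrrCharacter G → ℤ, ∑ χ ∈ bset B, F χ * X χ = 0 → ∑ χ ∈ bset B, F χ * Y χ = 0 →
      ∑ χ ∈ bset B, F χ * (a * X χ - b * Y χ) = 0 := fun F h1 h2 => by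
    rw [Finset.sum_congr rfl (g := fun χ => a * (F χ * X χ) - b * (F χ * Y χ)) fun χ _ => by ring,
      Finset.sum_sub_distrib, ← Finset.mul_sum, ← Finset.mul_sum, h1, h2]
    ring
  exact ⟨h _ hX.1 hY.1, fun i => h _ (hX.2.1 i) (hY.2.1 i), fun i => h _ (hX.2.2 i) (hY.2.2 i)⟩

open scoped Classical in
set_option maxHeartbeats 1000000 in
/-- The frame of two characters of large height: what a vector orthogonal to everything looks like. -/
theorem frame (Q : QB M B A e u) (he : 1 ≤ e) (hS : Q.Shape) (hgood : Q.Good) {r r' : IrrCharacter G} (hne : r ≠ r')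
    (hr : r ∈ Q.zs) (hr' : r' ∈ Q.zs) :
    Q.zs = {r, r'} ∧ ∃ P0, P0 ⊆ Q.xs ∧ P0.card = 2 ∧ (∀ r ∈ Q.zs, ∑ χ ∈ P0, Q.wv χ * wI 2 B r χ = 0) ∧
      (∀ X : IrrCharacter G → ℤ, (∑ χ ∈ Q.xs, Q.wv χ * X χ = 0) → (∀ s ∈ Q.zs, ∑ χ ∈ Q.xs, X χ * wI 2 B s χ = 0) →
        (∑ χ ∈ P0, Q.wv χ * X χ = 0) → ∀ χ ∈ Q.xs, X χ = 0) ∧
      (∀ X : IrrCharacter G → ℤ, Q.Perp X → ∀ χ ∈ Q.us, ∃ d : ℤ, (d = 1 ∨ d = -1) ∧ ∑ φ ∈ P0, Q.wv φ * X φ + d * X χ = 0) ∧
      Q.us.Nonempty := by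
  obtain ⟨husc, -, -, hpair⟩ := hgood
  obtain ⟨P0, hP0, hP2, hu⟩ := hpair he
  have hzs : Q.zs = {r, r'} := by
    refine (Finset.eq_of_subset_of_card_le (fun x hx => ?_) ?_).symm
    · simp only [Finset.mem_insert, Finset.mem_singleton] at hx
      rcases hx with rfl | rfl <;> assumption
    · rw [Finset.card_pair hne]
      have := hS.zs_le
      rwa [if_neg (by omega)] at this
  have hp : 2 ≤ 2 ^ e := le_self_pow one_le_two (by omega)
  have hus : Q.us.Nonempty := Finset.card_pos.mp (by omega)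
  have hperp : ∀ X, Q.Perp X → ∀ χ ∈ Q.us, ∃ d : ℤ, (d = 1 ∨ d = -1) ∧
      ∑ φ ∈ P0, Q.wv φ * X φ + d * X χ = 0 := by
    intro X hX χ hχ
    obtain ⟨i, d, hd, hv⟩ := hu χ hχ
    refine ⟨d, hd, ?_⟩
    have h := hX.2.1 i
    rw [Finset.sum_congr rfl fun φ hφ => by rw [hv φ hφ]] at h
    simp only [add_mul, ite_mul, zero_mul, Finset.sum_add_distrib, Finset.sum_ite_mem, Finset.sum_ite_eq'] at h
    rwa [if_pos (mem_bset.mpr (Q.mem_us.mp hχ).1), Finset.inter_eq_right.mpr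
      (hP0.trans (Finset.filter_subset _ _))] at h
  have hrow : ∀ s ∈ Q.zs, ∑ χ ∈ P0, Q.wv χ * wI 2 B s χ = 0 := by
    intro s hs
    obtain ⟨χ, hχ⟩ := hus
    obtain ⟨d, -, h⟩ := hperp _ (Q.perp_row s) χ hχ
    have h0 : wI 2 B s χ = 0 := (Q.row_zs hs).2.2.2 χ (Q.mem_us.mp hχ).1
      (fun h' => (Q.mem_xs.mp h').2 (Q.mem_us.mp hχ).2.1)
      fun h' => by
        obtain ⟨-, -, i, hi⟩ := Q.mem_us.mp hχ
        exact hi ((Q.mem_zs.mp (h' ▸ hs)).2.2.1 i)
    rwa [h0, mul_zero, add_zero] at h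
  refine ⟨hzs, P0, hP0, hP2, hrow, ?_, hperp, hus⟩
  intro X hXw hXR hXP χ hχ
  by_contra hne0
  let w1 : Bool → IrrCharacter G → ℤ := fun b φ =>
    if b then (if φ ∈ P0 then Q.wv φ else 0) else (if φ ∈ P0 then 0 else Q.wv φ)
  have hw1 : ∀ Y : IrrCharacter G → ℤ, ∑ φ ∈ Q.xs, w1 true φ * Y φ = ∑ φ ∈ P0, Q.wv φ * Y φ := fun Y => by
    refine (Finset.sum_subset_zero_on_sdiff hP0 (fun φ hφ => ?_) fun φ hφ => ?_).symm
    · simp [w1, (Finset.mem_sdiff.mp hφ).2]
    · simp [w1, hφ]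
  have hsplit : ∀ (b : Bool) (Y : IrrCharacter G → ℤ), (∑ φ ∈ Q.xs, Q.wv φ * Y φ = 0) →
      (∑ φ ∈ P0, Q.wv φ * Y φ = 0) → ∑ φ ∈ Q.xs, w1 b φ * Y φ = 0 := by
    intro b Y h1 h2
    cases b
    · rw [Finset.sum_congr rfl (g := fun φ => w1 true φ * Y φ + w1 false φ * Y φ) fun φ _ => by
        by_cases h : φ ∈ P0 <;> simp [w1, h], Finset.sum_add_distrib, hw1, h2, zero_add] at h1
      exact h1
    · rw [hw1, h2]
  have key : Fintype.card ((Option {s // s ∈ Q.zs}) ⊕ Bool) ≤ Q.xs.card :=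
    orth_card_le (fun o φ => o.elim (fun s => s.elim (X φ) fun s => wI 2 B s.1 φ) fun b => w1 b φ) (fun i j hij => by
      rcases i with (_ | i) | i <;> rcases j with (_ | j) | j
      · exact absurd rfl hij
      · exact hXR j.1 j.2
      · exact (Finset.sum_congr rfl fun φ _ => mul_comm _ _).trans (hsplit j X hXw hXP)
      · exact (Finset.sum_congr rfl fun φ _ => mul_comm _ _).trans (hXR i.1 i.2)
      · exact Q.row_row i.2 j.2 fun h => hij (congrArg (fun s => Sum.inl (some s)) (Subtype.ext h))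
      · exact (Finset.sum_congr rfl fun φ _ => mul_comm _ _).trans (hsplit j _ (Q.row_wv i.2) (hrow _ i.2))
      · exact hsplit i X hXw hXP
      · exact hsplit i _ (Q.row_wv j.2) (hrow _ j.2)
      · refine Finset.sum_eq_zero fun φ _ => ?_
        cases i <;> cases j <;> first | exact absurd rfl hij | (by_cases h : φ ∈ P0 <;> simp [w1, h])) fun i => by
      rcases i with (_ | i) | b
      · exact ne_of_gt (Finset.sum_pos' (fun φ _ => mul_self_nonneg _) ⟨χ, hχ, mul_self_pos.mpr hne0⟩)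
      · exact ne_of_gt (Finset.sum_pos (fun φ hφ => mul_self_pos.mpr
          (wI_ne_zero Q.hM Q.hB (Q.mem_zs.mp i.2).1 (Q.mem_xs.mp hφ).1 (Q.height_xs hφ))) Q.xs_nonempty)
      · obtain ⟨x, hx, hx1⟩ : ∃ x ∈ Q.xs, w1 b x ≠ 0 := by
          cases b
          · obtain ⟨x, hx, hxn⟩ := Finset.exists_mem_notMem_of_card_lt_card
              (s := P0) (t := Q.xs) (by rw [Q.wv_shape.2, hP2]; omega)
            exact ⟨x, hx, by simpa [w1, hxn] using (Q.mem_xs.mp hx).2⟩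
          · obtain ⟨x, hx⟩ : P0.Nonempty := Finset.card_pos.mp (by rw [hP2]; omega)
            exact ⟨x, hP0 hx, by simpa [w1, hx] using (Q.mem_xs.mp (hP0 hx)).2⟩
        exact ne_of_gt (Finset.sum_pos' (fun φ _ => mul_self_nonneg _) ⟨x, hx, mul_self_pos.mpr hx1⟩)
  rw [Fintype.card_sum, Fintype.card_option, Fintype.card_coe, Fintype.card_bool, Q.wv_shape.2, hzs,
    Finset.card_pair hne] at key
  omega

open scoped Classical in
/-- The four parts of the block. -/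
theorem parts (Q : QB M B A e u) (hS : Q.Shape) (F : IrrCharacter G → ℤ) :
    ∑ χ ∈ bset B, F χ = ∑ χ ∈ Q.xs, F χ + ∑ χ ∈ Q.us, F χ + ∑ χ ∈ Q.os, F χ + ∑ χ ∈ Q.zs, F χ := by
  have e1 : bset B = (Q.xs ∪ Q.us) ∪ Q.os ∪ Q.zs := by
    ext χ
    simp only [Finset.mem_union, Q.mem_xs, Q.mem_us, Q.mem_os, Q.mem_zs, mem_bset]
    constructor
    · intro hB
      by_cases hw : Q.wv χ = 0
      · by_cases h1 : ∃ i, Q.uv i χ ≠ 0
        · exact Or.inl (Or.inl (Or.inr ⟨hB, hw, h1⟩))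
        · by_cases h2 : ∃ i, Q.ov i χ ≠ 0
          · exact Or.inl (Or.inr ⟨hB, hw, h2⟩)
          · push Not at h1 h2
            exact Or.inr ⟨hB, hw, h1, h2⟩
      · exact Or.inl (Or.inl (Or.inl ⟨hB, hw⟩))
    · rintro (((h | h) | h) | h) <;> exact h.1
  rw [e1, Finset.sum_union, Finset.sum_union, Finset.sum_union]
  · rw [Finset.disjoint_left]
    exact fun χ h h' => (Q.mem_xs.mp h).2 (Q.mem_us.mp h').2.1
  · rw [Finset.disjoint_left]
    intro χ h h'
    rcases Finset.mem_union.mp h with h | h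
    · exact (Q.mem_xs.mp h).2 (Q.mem_os.mp h').2.1
    · exact hS.disj χ h h'
  · rw [Finset.disjoint_left]
    intro χ h h'
    obtain ⟨-, hw, hu, ho⟩ := Q.mem_zs.mp h'
    rcases Finset.mem_union.mp h with h | h
    · rcases Finset.mem_union.mp h with h | h
      · exact (Q.mem_xs.mp h).2 hw
      · obtain ⟨-, -, i, hi⟩ := Q.mem_us.mp h
        exact hi (hu i)
    · obtain ⟨-, -, i, hi⟩ := Q.mem_os.mp h
      exact hi (ho i)

open scoped Classical in
set_option maxHeartbeats 1000000 in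
/-- Two characters of large height force rank three. -/
theorem rank_three (Q : QB M B A e u) (he : 1 ≤ e) (hS : Q.Shape) (hgood : Q.Good) (hz : Q.zs.card = 2) :
    blockRank 2 B = 3 := by
  obtain ⟨r, r', hne, hzs⟩ := Finset.card_eq_two.mp hz
  have hr : r ∈ Q.zs := by rw [hzs]; simp
  have hr' : r' ∈ Q.zs := by rw [hzs]; simp
  obtain ⟨-, P0, hP0, -, hrow, hdet, hperp, -⟩ := Q.frame he hS hgood hne hr hr'
  obtain ⟨g, hg⟩ : Q.os.Nonempty := Finset.card_pos.mp (by rw [hgood.2.1 he]; exact Nat.two_pow_pos e)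
  have hM := Q.hM
  have hB := Q.hB
  have hgB := (Q.mem_os.mp hg).1
  set q : ℤ := 2 ^ (e + 2) with hq
  set c := wI 2 B g g with hc
  have hcpos : 0 < c := wI_self_pos hM hB hgB
  have hrB := (Q.mem_zs.mp hr).1
  have hr'B := (Q.mem_zs.mp hr').1
  have hgr : ∀ s ∈ Q.zs, wI 2 B g s = 0 := fun s hs => by
    rw [wI_symm hM g s]
    refine (Q.row_zs hs).2.2.2 g hgB (fun h => (Q.mem_xs.mp h).2 (Q.mem_os.mp hg).2.1) fun h => ?_
    obtain ⟨-, -, i, hi⟩ := Q.mem_os.mp hg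
    exact hi ((Q.mem_zs.mp (h ▸ hs)).2.2.2 i)
  have hrr' : wI 2 B r r' = 0 :=
    (Q.row_zs hr).2.2.2 r' hr'B (fun h => (Q.mem_xs.mp h).2 (Q.mem_zs.mp hr').2.1) hne.symm
  have hsq : ∀ a ∈ B, ∀ b, ∑ χ ∈ bset B, wI 2 B a χ * wI 2 B b χ = 2 * q * wI 2 B a b := by
    intro a ha b
    have h := RankTwo.sum_wI_mul hM hB (φ := b) ha
    rw [Q.defect] at h
    push_cast at h
    rw [hq, ← pow_succ', ← h]
    exact Finset.sum_congr rfl fun χ _ => by rw [wI_symm hM b χ]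
  -- the vanishing of the rest of each row
  have hkey : ∀ φ ∈ B, q * c * wI 2 B φ φ =
      c * wI 2 B φ r ^ 2 + c * wI 2 B φ r' ^ 2 + q * wI 2 B φ g ^ 2 := by
    intro φ hφ
    set E : IrrCharacter G → ℤ := fun χ => q * c * wI 2 B φ χ - c * wI 2 B φ r * wI 2 B r χ -
      c * wI 2 B φ r' * wI 2 B r' χ - q * wI 2 B φ g * wI 2 B g χ with hE
    have hEperp : Q.Perp E := by
      have h1 := Q.perp_comb (Q.perp_comb (Q.perp_comb (Q.perp_row φ) (Q.perp_row r) (q * c) (c * wI 2 B φ r))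
        (Q.perp_row r') 1 (c * wI 2 B φ r')) (Q.perp_row g) 1 (q * wI 2 B φ g)
      simp only [one_mul] at h1
      exact h1
    have hEz : ∀ s ∈ Q.zs, E s = 0 := by
      intro s hs
      rw [hzs, Finset.mem_insert, Finset.mem_singleton] at hs
      rcases hs with rfl | rfl
      · simp only [hE, hgr _ hr, (Q.row_zs hr).2.1, ← hq, wI_symm hM r' s, hrr']
        ring
      · simp only [hE, hgr _ hr', (Q.row_zs hr').2.1, ← hq, hrr']
        ring
    have hEo : ∀ χ ∈ Q.os, E χ = 0 := by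
      intro χ hχ
      rw [hS.os_const E hEperp.2.2 χ hχ g hg]
      simp only [hE, ← hc, wI_symm hM r g, wI_symm hM r' g, hgr _ hr, hgr _ hr']
      ring
    have hER : ∀ s ∈ Q.zs, ∑ χ ∈ Q.xs, E χ * wI 2 B s χ = 0 := by
      intro s hs
      have hsB := (Q.mem_zs.mp hs).1
      have h : ∑ χ ∈ bset B, E χ * wI 2 B s χ = 0 := by
        rw [Finset.sum_congr rfl (g := fun χ => q * c * (wI 2 B φ χ * wI 2 B s χ) -
            c * wI 2 B φ r * (wI 2 B r χ * wI 2 B s χ) - c * wI 2 B φ r' * (wI 2 B r' χ * wI 2 B s χ) -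
            q * wI 2 B φ g * (wI 2 B g χ * wI 2 B s χ)) fun χ _ => by simp only [hE]; ring]
        simp only [Finset.sum_sub_distrib, ← Finset.mul_sum, hsq φ hφ, hsq r hrB, hsq r' hr'B, hsq g hgB,
          hgr s hs]
        rw [hzs, Finset.mem_insert, Finset.mem_singleton] at hs
        rcases hs with rfl | rfl
        · rw [(Q.row_zs hr).2.1, wI_symm hM r' s, hrr', ← hq]; ring
        · rw [(Q.row_zs hr').2.1, hrr', ← hq]; ring
      rw [← h, Q.parts hS, Finset.sum_eq_zero (s := Q.zs) fun χ hχ => by rw [hEz χ hχ, zero_mul],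
        Finset.sum_eq_zero (s := Q.os) fun χ hχ => by rw [hEo χ hχ, zero_mul],
        Finset.sum_eq_zero (s := Q.us) fun χ hχ => by
          rw [(Q.row_zs hs).2.2.2 χ (Q.mem_us.mp hχ).1 (fun h' => (Q.mem_xs.mp h').2 (Q.mem_us.mp hχ).2.1)
            (fun h' => by
              obtain ⟨-, -, i, hi⟩ := Q.mem_us.mp hχ
              exact hi ((Q.mem_zs.mp (h' ▸ hs)).2.2.1 i)), mul_zero]]
      ring
    have hgperp := Q.perp_row g
    have hgR : ∀ s ∈ Q.zs, ∑ χ ∈ Q.xs, wI 2 B g χ * wI 2 B s χ = 0 := by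
      intro s hs
      have h := hsq g hgB s
      rw [hgr s hs, mul_zero, Q.parts hS, Finset.sum_eq_zero (s := Q.zs) fun χ hχ => by rw [hgr χ hχ, zero_mul],
        Finset.sum_eq_zero (s := Q.os) fun χ hχ => by
          rw [(Q.row_zs hs).2.2.2 χ (Q.mem_os.mp hχ).1 (fun h' => (Q.mem_xs.mp h').2 (Q.mem_os.mp hχ).2.1)
            (fun h' => by
              obtain ⟨-, -, i, hi⟩ := Q.mem_os.mp hχ
              exact hi ((Q.mem_zs.mp (h' ▸ hs)).2.2.2 i)), mul_zero],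
        Finset.sum_eq_zero (s := Q.us) fun χ hχ => by
          rw [(Q.row_zs hs).2.2.2 χ (Q.mem_us.mp hχ).1 (fun h' => (Q.mem_xs.mp h').2 (Q.mem_us.mp hχ).2.1)
            (fun h' => by
              obtain ⟨-, -, i, hi⟩ := Q.mem_us.mp hχ
              exact hi ((Q.mem_zs.mp (h' ▸ hs)).2.2.1 i)), mul_zero]] at h
      linarith
    have hxw : ∀ X, Q.Perp X → ∑ χ ∈ Q.xs, Q.wv χ * X χ = 0 := by
      intro X hX
      rw [← hX.1]
      refine Finset.sum_subset (Finset.filter_subset _ _) fun χ hχ hn => ?_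
      rw [not_not.mp fun h' => hn (Q.mem_xs.mpr ⟨mem_bset.mp hχ, h'⟩), zero_mul]
    set tE := ∑ χ ∈ P0, Q.wv χ * E χ with htE
    set tg := ∑ χ ∈ P0, Q.wv χ * wI 2 B g χ with htg
    have htg0 : tg ≠ 0 := by
      intro h0
      obtain ⟨x, hx⟩ := Q.xs_nonempty
      exact wI_ne_zero hM hB hgB (Q.mem_xs.mp hx).1 (Q.height_xs hx)
        (hdet _ (hxw _ hgperp) hgR h0 x hx)
    have hY : ∀ χ, χ ∈ Q.xs ∨ χ ∈ Q.us → tg * E χ = tE * wI 2 B g χ := by
      have hYperp := Q.perp_comb hEperp hgperp tg tE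
      have hYP : ∑ χ ∈ P0, Q.wv χ * (tg * E χ - tE * wI 2 B g χ) = 0 := by
        rw [Finset.sum_congr rfl (g := fun χ => tg * (Q.wv χ * E χ) - tE * (Q.wv χ * wI 2 B g χ)) fun χ _ => by ring,
          Finset.sum_sub_distrib, ← Finset.mul_sum, ← Finset.mul_sum, ← htE, ← htg]
        ring
      have hYR : ∀ s ∈ Q.zs, ∑ χ ∈ Q.xs, (tg * E χ - tE * wI 2 B g χ) * wI 2 B s χ = 0 := by
        intro s hs
        rw [Finset.sum_congr rfl (g := fun χ => tg * (E χ * wI 2 B s χ) - tE * (wI 2 B g χ * wI 2 B s χ))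
          fun χ _ => by ring, Finset.sum_sub_distrib, ← Finset.mul_sum, ← Finset.mul_sum, hER s hs, hgR s hs]
        ring
      rintro χ (hχ | hχ)
      · have := hdet _ (hxw _ hYperp) hYR hYP χ hχ
        linarith
      · obtain ⟨d, hd, h⟩ := hperp _ hYperp χ hχ
        rw [hYP, zero_add] at h
        rcases mul_eq_zero.mp h with h | h
        · rcases hd with rfl | rfl <;> norm_num at h
        · linarith
    have hEg : ∑ χ ∈ bset B, E χ * wI 2 B g χ = 0 := by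
      rw [Finset.sum_congr rfl (g := fun χ => q * c * (wI 2 B φ χ * wI 2 B g χ) -
          c * wI 2 B φ r * (wI 2 B r χ * wI 2 B g χ) - c * wI 2 B φ r' * (wI 2 B r' χ * wI 2 B g χ) -
          q * wI 2 B φ g * (wI 2 B g χ * wI 2 B g χ)) fun χ _ => by simp only [hE]; ring]
      simp only [Finset.sum_sub_distrib, ← Finset.mul_sum, hsq φ hφ, hsq r hrB, hsq r' hr'B, hsq g hgB,
        wI_symm hM r g, wI_symm hM r' g, hgr r hr, hgr r' hr', ← hc]
      ring
    rw [Q.parts hS, Finset.sum_eq_zero (s := Q.zs) fun χ hχ => by rw [hEz χ hχ, zero_mul],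
      Finset.sum_eq_zero (s := Q.os) fun χ hχ => by rw [hEo χ hχ, zero_mul], add_zero, add_zero] at hEg
    have htE0 : tE = 0 := by
      have h : tE * (∑ χ ∈ Q.xs, wI 2 B g χ * wI 2 B g χ + ∑ χ ∈ Q.us, wI 2 B g χ * wI 2 B g χ) = 0 := by
        have : tg * (∑ χ ∈ Q.xs, E χ * wI 2 B g χ + ∑ χ ∈ Q.us, E χ * wI 2 B g χ) = 0 := by rw [hEg, mul_zero]
        rw [← this, mul_add, mul_add, Finset.mul_sum, Finset.mul_sum, Finset.mul_sum, Finset.mul_sum]
        congr 1 <;> refine Finset.sum_congr rfl fun χ hχ => ?_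
        · rw [← mul_assoc, ← hY χ (Or.inl hχ)]; ring
        · rw [← mul_assoc, ← hY χ (Or.inr hχ)]; ring
      refine (mul_eq_zero.mp h).resolve_right (ne_of_gt (add_pos_of_pos_of_nonneg ?_ ?_))
      · exact Finset.sum_pos (fun χ hχ => mul_self_pos.mpr
          (wI_ne_zero hM hB hgB (Q.mem_xs.mp hχ).1 (Q.height_xs hχ))) Q.xs_nonempty
      · exact Finset.sum_nonneg fun χ _ => mul_self_nonneg _
    have hall : E φ = 0 := by
      have hxu : φ ∈ Q.xs ∨ φ ∈ Q.us ∨ φ ∈ Q.os ∨ φ ∈ Q.zs := by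
        by_cases hw : Q.wv φ = 0
        · by_cases h1 : ∃ i, Q.uv i φ ≠ 0
          · exact Or.inr (Or.inl (Q.mem_us.mpr ⟨hφ, hw, h1⟩))
          · by_cases h2 : ∃ i, Q.ov i φ ≠ 0
            · exact Or.inr (Or.inr (Or.inl (Q.mem_os.mpr ⟨hφ, hw, h2⟩)))
            · push Not at h1 h2
              exact Or.inr (Or.inr (Or.inr (Q.mem_zs.mpr ⟨hφ, hw, h1, h2⟩)))
        · exact Or.inl (Q.mem_xs.mpr ⟨hφ, hw⟩)
      rcases hxu with h | h | h | h
      · exact (mul_eq_zero.mp ((hY φ (Or.inl h)).trans (by rw [htE0, zero_mul]))).resolve_left htg0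
      · exact (mul_eq_zero.mp ((hY φ (Or.inr h)).trans (by rw [htE0, zero_mul]))).resolve_left htg0
      · exact hEo φ h
      · exact hEz φ h
    simp only [hE, wI_symm hM r φ, wI_symm hM r' φ, wI_symm hM g φ] at hall
    linear_combination hall
  -- the trace
  have htr := pow_mul_blockRank hM hB
  rw [Q.defect] at htr
  push_cast at htr
  have h1 : q * c * ∑ φ ∈ bset B, wI 2 B φ φ = q * c * (3 * (2 * q)) := by
    rw [Finset.mul_sum, Finset.sum_congr rfl fun φ hφ => hkey φ (mem_bset.mp hφ)]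
    have hs : ∀ a ∈ B, ∑ φ ∈ bset B, wI 2 B φ a ^ 2 = 2 * q * wI 2 B a a := fun a ha => by
      rw [← hsq a ha a]
      exact Finset.sum_congr rfl fun φ _ => by rw [wI_symm hM φ a, sq]
    simp only [Finset.sum_add_distrib, ← Finset.mul_sum, hs r hrB, hs r' hr'B, hs g hgB, (Q.row_zs hr).2.1,
      (Q.row_zs hr').2.1, ← hq, ← hc]
    ring
  have hqpos : 0 < q := pow_pos two_pos _
  have h2 := mul_left_cancel₀ (mul_ne_zero hqpos.ne' hcpos.ne') h1
  rw [← htr, hq, ← pow_succ'] at h2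
  have h3 : ((blockRank 2 B : ℤ)) = 3 := mul_left_cancel₀ (pow_ne_zero (e + 3) two_ne_zero) (by linear_combination h2)
  exact_mod_cast h3

open scoped Classical in
/-- No column of norm four. -/
theorem no_column (Q : QB M B A e u) (he : 1 ≤ e) (hS : Q.Shape) (hgood : Q.Good) (hz : Q.zs.card = 2)
    (d : IrrCharacter G → ℤ) (hnorm : ∑ χ ∈ bset B, d χ * d χ = 4)
    (hreg : ∀ g : G, ¬ 2 ∣ orderOf g → ∑ χ ∈ bset B, (d χ : ℂ) * (χ : G → ℂ) g = 0)
    (hperpd : Q.Perp d) (heven : ∀ χ ∈ Q.zs, Even (d χ)) : False := by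
  obtain ⟨r, r', hne, hzs⟩ := Finset.card_eq_two.mp hz
  have hr : r ∈ Q.zs := by rw [hzs]; simp
  have hr' : r' ∈ Q.zs := by rw [hzs]; simp
  obtain ⟨-, P0, hP0, hP2, hrow, hdet, hperp, hus⟩ := Q.frame he hS hgood hne hr hr'
  have hrows : ∀ φ, ∑ χ ∈ bset B, d χ * wI 2 B χ φ = 0 := fun φ =>
    CyclicForm.sum_wI_eq_zero Q.hM Q.hB (bset B) (fun _ h => mem_bset.mp h) _ (fun _ hg => hreg _ hg) φ
  have hdeg : ∑ χ ∈ bset B, d χ * (charDegree (χ : G → ℂ) : ℤ) = 0 := by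
    apply Int.cast_injective (α := ℂ)
    rw [Int.cast_zero, ← hreg 1 (by simp), Int.cast_sum]
    refine Finset.sum_congr rfl fun χ _ => ?_
    rw [char_one_eq_deg (irr_isCharacter χ.2)]
    push_cast
    rfl
  have hone : ∀ χ ∈ bset B, d χ = -1 ∨ d χ = 0 ∨ d χ = 1 := by
    intro χ hχ
    by_contra hcon
    have h4 : 4 ≤ d χ * d χ := by
      rcases (show d χ ≤ -2 ∨ 2 ≤ d χ by omega) with h' | h' <;> nlinarith
    have hsplit := Finset.add_sum_erase _ (fun φ => d φ * d φ) hχ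
    have hnn : 0 ≤ ∑ φ ∈ (bset B).erase χ, d φ * d φ := Finset.sum_nonneg fun φ _ => mul_self_nonneg _
    have h0 : ∀ φ ∈ (bset B).erase χ, d φ = 0 := fun φ hφ => mul_self_eq_zero.mp
      ((Finset.sum_eq_zero_iff_of_nonneg fun z _ => mul_self_nonneg (d z)).mp (by linarith) φ hφ)
    rw [← Finset.add_sum_erase _ (fun φ => d φ * (charDegree (φ : G → ℂ) : ℤ)) hχ,
      Finset.sum_eq_zero (s := (bset B).erase χ) fun φ hφ => by rw [h0 φ hφ, zero_mul], add_zero] at hdeg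
    rcases mul_eq_zero.mp hdeg with h | h
    · omega
    · exact (deg_pos' χ).ne' h
  have hdz : ∀ s ∈ Q.zs, d s = 0 := fun s hs => by
    obtain ⟨k, hk⟩ := heven s hs
    rcases hone s (mem_bset.mpr (Q.mem_zs.mp hs).1) with h | h | h <;> omega
  set t := ∑ χ ∈ P0, Q.wv χ * d χ with ht
  let s : IrrCharacter G → ℤ := fun χ => if χ ∈ P0 then Q.wv χ else -Q.wv χ
  have hsq1 : ∀ χ ∈ Q.xs, Q.wv χ * Q.wv χ = 1 := fun χ hχ => by
    rcases Q.wv_shape.1 χ (mem_bset.mpr (Q.mem_xs.mp hχ).1) with h | h | h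
    · rw [h]; norm_num
    · exact absurd h (Q.mem_xs.mp hχ).2
    · rw [h]; norm_num
  have hdw : ∑ χ ∈ Q.xs, Q.wv χ * d χ = 0 := by
    rw [← hperpd.1]
    refine Finset.sum_subset (Finset.filter_subset _ _) fun χ hχ hn => ?_
    rw [not_not.mp fun h' => hn (Q.mem_xs.mpr ⟨mem_bset.mp hχ, h'⟩), zero_mul]
  have hdR : ∀ s ∈ Q.zs, ∑ χ ∈ Q.xs, d χ * wI 2 B s χ = 0 := by
    intro s hs
    rw [← hrows s]
    refine (Finset.sum_congr rfl fun χ _ => by rw [wI_symm Q.hM s χ]).trans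
      (Finset.sum_subset (Finset.filter_subset _ _) fun χ hχ hn => ?_)
    rcases eq_or_ne χ s with rfl | hne'
    · rw [hdz _ hs, zero_mul]
    · rw [wI_symm Q.hM χ s, (Q.row_zs hs).2.2.2 χ (mem_bset.mp hχ) hn hne', mul_zero]
  have hX : ∀ χ ∈ Q.xs, 2 * d χ - t * s χ = 0 := by
    refine hdet (fun χ => 2 * d χ - t * s χ) ?_ ?_ ?_
    · have hsw : ∑ χ ∈ Q.xs, Q.wv χ * s χ = 0 := by
        rw [← Finset.sum_sdiff hP0, Finset.sum_congr rfl (g := fun _ => (-1 : ℤ)) fun χ hχ => by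
            obtain ⟨hX, hn⟩ := Finset.mem_sdiff.mp hχ
            simp only [s, if_neg hn, mul_neg, hsq1 χ hX],
          Finset.sum_congr rfl (s₁ := P0) (g := fun _ => (1 : ℤ)) fun χ hχ => by
            simp only [s, if_pos hχ, hsq1 χ (hP0 hχ)],
          Finset.sum_const, Finset.sum_const, Finset.card_sdiff_of_subset hP0, Q.wv_shape.2, hP2]
        norm_num
      rw [Finset.sum_congr rfl (g := fun χ => 2 * (Q.wv χ * d χ) - t * (Q.wv χ * s χ)) fun χ _ => by ring,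
        Finset.sum_sub_distrib, ← Finset.mul_sum, ← Finset.mul_sum, hdw, hsw]
      ring
    · intro a ha
      have hsR : ∑ χ ∈ Q.xs, s χ * wI 2 B a χ = 0 := by
        have h1 := hrow a ha
        have h2 := Q.row_wv ha
        rw [← Finset.sum_sdiff hP0, h1, add_zero] at h2
        rw [← Finset.sum_sdiff hP0, Finset.sum_congr rfl (g := fun χ => -(Q.wv χ * wI 2 B a χ)) fun χ hχ => by
            simp only [s, if_neg (Finset.mem_sdiff.mp hχ).2, neg_mul],
          Finset.sum_congr rfl (s₁ := P0) (g := fun χ => Q.wv χ * wI 2 B a χ) fun χ hχ => by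
            simp only [s, if_pos hχ], Finset.sum_neg_distrib, h2, h1]
        ring
      rw [Finset.sum_congr rfl (g := fun χ => 2 * (d χ * wI 2 B a χ) - t * (s χ * wI 2 B a χ)) fun χ _ => by ring,
        Finset.sum_sub_distrib, ← Finset.mul_sum, ← Finset.mul_sum, hdR a ha, hsR]
      ring
    · rw [Finset.sum_congr rfl (g := fun χ => 2 * (Q.wv χ * d χ) - t) fun χ hχ => by
          simp only [s, if_pos hχ]
          linear_combination -t * hsq1 χ (hP0 hχ),
        Finset.sum_sub_distrib, ← Finset.mul_sum, ← ht, Finset.sum_const, hP2, nsmul_eq_mul]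
      push_cast
      ring
  obtain ⟨f, hf⟩ := hus
  obtain ⟨δ, hδ, hf'⟩ := hperp d hperpd f hf
  rw [← ht] at hf'
  have ht0 : t = 0 := by
    obtain ⟨x, hx⟩ := Q.xs_nonempty
    have h1 := hX x hx
    have h2 : s x = 1 ∨ s x = -1 := by
      rcases Q.wv_shape.1 x (mem_bset.mpr (Q.mem_xs.mp hx).1) with h | h | h
      · by_cases hP : x ∈ P0 <;> simp [s, hP, h]
      · exact absurd h (Q.mem_xs.mp hx).2
      · by_cases hP : x ∈ P0 <;> simp [s, hP, h]
    rcases hone f (mem_bset.mpr (Q.mem_us.mp hf).1) with h | h | h <;> rcases hδ with rfl | rfl <;>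
      rcases h2 with h3 | h3 <;> rw [h] at hf' <;> rw [h3] at h1 <;> omega
  have hd0 : ∀ χ ∈ Q.xs, d χ = 0 := fun χ hχ => by
    have := hX χ hχ
    rw [ht0, zero_mul] at this
    omega
  have hdu : ∀ χ ∈ Q.us, d χ = 0 := fun χ hχ => by
    obtain ⟨δ', hδ', h⟩ := hperp d hperpd χ hχ
    rw [← ht, ht0, zero_add] at h
    rcases hδ' with rfl | rfl <;> omega
  obtain ⟨g, hg⟩ : Q.os.Nonempty := Finset.card_pos.mp (by rw [hgood.2.1 he]; exact Nat.two_pow_pos e)
  have hconst := hS.os_const d hperpd.2.2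
  have hdo : ∀ χ ∈ Q.os, d χ = 0 := by
    have h := hrows g
    rw [Q.parts hS, Finset.sum_eq_zero (s := Q.zs) fun χ hχ => by rw [hdz χ hχ, zero_mul],
      Finset.sum_eq_zero (s := Q.xs) fun χ hχ => by rw [hd0 χ hχ, zero_mul],
      Finset.sum_eq_zero (s := Q.us) fun χ hχ => by rw [hdu χ hχ, zero_mul],
      Finset.sum_congr rfl (s₁ := Q.os) (g := fun _ => d g * wI 2 B g g) fun χ hχ => by
        rw [hconst χ hχ g hg, wI_symm Q.hM χ g, hS.os_reg χ hχ g hg g], Finset.sum_const, nsmul_eq_mul,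
      hgood.2.1 he] at h
    simp only [zero_add, add_zero] at h
    have hpos := wI_self_pos Q.hM Q.hB (Q.mem_os.mp hg).1
    rcases mul_eq_zero.mp h with h | h
    · exact absurd h (by exact_mod_cast (Nat.two_pow_pos e).ne')
    · exact fun χ hχ => (hconst χ hχ g hg).trans ((mul_eq_zero.mp h).resolve_right hpos.ne')
  rw [Q.parts hS, Finset.sum_eq_zero fun χ hχ => by rw [hd0 χ hχ, zero_mul],
    Finset.sum_eq_zero fun χ hχ => by rw [hdu χ hχ, zero_mul],
    Finset.sum_eq_zero fun χ hχ => by rw [hdo χ hχ, zero_mul],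
    Finset.sum_eq_zero fun χ hχ => by rw [hdz χ hχ, zero_mul]] at hnorm
  norm_num at hnorm

end QB

end Cfsg.Agent.Char.QuatBlock
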