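import Cfsg.Agent.Lib.Char.LocalNilpotent
import Cfsg.Agent.Lib.Char.CentralPairs
import Cfsg.Agent.Lib.Char.QuatBlock.Family

/-!
# The local block at the cyclic subgroup of order four of a quaternion defect group
-/

set_option autoImplicit false
set_option linter.unusedSectionVars false
set_option linter.style.haveILetI false

namespace Cfsg.Agent.Char.QuatBlock

open Cfsg Relation

universe u v

variable {G : Type u} [Group G]

/-- The elements taking `u` to itself or to its inverse. -/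
def axis (u : G) : Subgroup G where
  carrier := {g | g * u * g⁻¹ = u ∨ g * u * g⁻¹ = u⁻¹}
  one_mem' := Or.inl (by group)
  mul_mem' := by
    intro g g' hg hg'
    have e : g * g' * u * (g * g')⁻¹ = g * (g' * u * g'⁻¹) * g⁻¹ := by group
    have e' : g * u⁻¹ * g⁻¹ = (g * u * g⁻¹)⁻¹ := by group
    show g * g' * u * (g * g')⁻¹ = u ∨ g * g' * u * (g * g')⁻¹ = u⁻¹
    rcases hg with hg | hg <;> rcases hg' with hg' | hg' <;> rw [e, hg']
    · exact Or.inl hg
    · exact Or.inr (by rw [e', hg])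
    · exact Or.inr hg
    · exact Or.inl (by rw [e', hg, inv_inv])
  inv_mem' := by
    intro g hg
    show g⁻¹ * u * g⁻¹⁻¹ = u ∨ g⁻¹ * u * g⁻¹⁻¹ = u⁻¹
    rcases hg with h | h
    · exact Or.inl (by
        conv_lhs => rw [← h]
        group)
    · exact Or.inr (by
        have h' : g * u⁻¹ * g⁻¹ = u := by rw [show g * u⁻¹ * g⁻¹ = (g * u * g⁻¹)⁻¹ by group, h, inv_inv]
        conv_lhs => rw [← h']
        group)

theorem mem_axis {u g : G} : g ∈ axis u ↔ g * u * g⁻¹ = u ∨ g * u * g⁻¹ = u⁻¹ := Iff.rfl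

/-- A power of `x` is `u` or its inverse. -/
def Gd (u x : G) : Prop := ∃ k : ℕ, x ^ 2 ^ k = u ∨ x ^ 2 ^ k = u⁻¹

theorem gd_fused {u x t : G} (hu : orderOf u = 4) (h : Gd u x) (h' : Gd u (t * x * t⁻¹)) : t ∈ axis u := by
  obtain ⟨k, hk⟩ := h
  obtain ⟨l, hl⟩ := h'
  rw [conj_pow] at hl
  have ok : orderOf (x ^ 2 ^ k) = 4 := by rcases hk with e | e <;> rw [e] <;> simp [hu]
  have ol : orderOf (x ^ 2 ^ l) = 4 := by
    have : orderOf (t * x ^ 2 ^ l * t⁻¹) = 4 := by rcases hl with e | e <;> rw [e] <;> simp [hu]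
    rwa [show t * x ^ 2 ^ l * t⁻¹ = MulAut.conj t (x ^ 2 ^ l) from rfl, MulEquiv.orderOf_eq] at this
  have key : ∀ {i j : ℕ}, orderOf (x ^ 2 ^ i) = 4 → orderOf (x ^ 2 ^ j) = 4 → i < j → False := by
    intro i j hi hj hij
    obtain ⟨c, rfl⟩ := Nat.exists_eq_add_of_lt hij
    have h2 : (x ^ 2 ^ (i + c + 1)) ^ 2 = 1 := by
      have h4 : (x ^ 2 ^ i) ^ 4 = 1 := by rw [← hi]; exact pow_orderOf_eq_one _
      rw [← pow_mul] at h4 ⊢
      rw [show 2 ^ (i + c + 1) * 2 = 2 ^ i * 4 * 2 ^ c by rw [pow_succ, pow_add]; ring, pow_mul, h4, one_pow]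
    have := Nat.le_of_dvd two_pos (orderOf_dvd_of_pow_eq_one h2)
    omega
  have hkl : k = l := by
    rcases lt_trichotomy k l with h | h | h
    · exact (key ok ol h).elim
    · exact h
    · exact (key ol ok h).elim
  subst hkl
  rw [mem_axis]
  rcases hk with e | e <;> rw [e] at hl
  · exact hl
  · have e' : t * u⁻¹ * t⁻¹ = (t * u * t⁻¹)⁻¹ := by group
    rw [e'] at hl
    rcases hl with h | h
    · exact Or.inr (inv_eq_iff_eq_inv.mp h)
    · exact Or.inl (inv_inj.mp h)

variable [Fintype G] {A : Type v} [Group A] [Fintype A] {e : ℕ}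

open scoped Classical in
/-- The local data at the rotation of order four. -/
theorem exists_local {M : Ideal AlgInt} (hM : IsPModular 2 M) {B : Set (IrrCharacter G)} (hB : IsPBlock M B)
    {D : Subgroup G} (hD : IsDefectGroup 2 M B D) (F : AxisFamily A e) (ι : A ≃* D)
    {u : G} (hu : u = ((ι F.h : D) : G)) [Fintype (axis u)] :
    ∃ S : LocalNil 2 M B (axis u) A, blockDefect 2 S.f = blockDefect 2 B ∧ ((S.d F.h : axis u) : G) = u := by
  revert ‹Fintype (axis u)›
  subst hu
  set u : G := ((ι (F.h) : D) : G) with hu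
  intro _
  have hP := pmod_prime hM
  obtain ⟨c, hc⟩ := exists_pair_of_le_defect hM hB hD le_rfl
  have hmax := maximal_of_defect hM hD hc
  have huD : u ∈ D := (ι (F.h)).2
  have hQD : Subgroup.zpowers u ≤ D := Subgroup.zpowers_le.mpr huD
  have hDH : D ≤ axis u := fun d hd => by
    obtain ⟨y, hy⟩ := ι.surjective ⟨d, hd⟩
    have hy' : ((ι y : D) : G) = d := congrArg Subtype.val hy
    rw [mem_axis, ← hy', hu]
    rcases F.conj_h y with h | h <;> have h' := congrArg (fun w => ((ι w : D) : G)) h <;>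
      simp only [map_mul, map_inv, Subgroup.coe_mul, Subgroup.coe_inv] at h'
    · exact Or.inl h'
    · exact Or.inr h'
  have hCH : Subgroup.centralizer (Subgroup.zpowers u : Set G) ≤ axis u := fun g hg => by
    rw [centralizer_zpowers_eq, Subgroup.mem_centralizer_singleton_iff] at hg
    exact Or.inl (by rw [hg, mul_inv_cancel_right])
  have hHN : axis u ≤ Subgroup.normalizer (Subgroup.zpowers u : Set G) := fun g hg => by
    refine Subgroup.mem_normalizer_iff_map_conj_eq.mpr ?_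
    rw [MonoidHom.map_zpowers]
    show Subgroup.zpowers (g * u * g⁻¹) = _
    rcases hg with h | h <;> rw [h]
    exact Subgroup.zpowers_inv
  haveI : Fintype (Subgroup.centralizer (Subgroup.zpowers u : Set G)) := Fintype.ofFinite _
  have hDp := hmax.1.1.1
  obtain ⟨b, hb, -⟩ := existsUnique_normalSubpair hM hDp hQD (hDH.trans hHN) hmax.1.1.2
  have hgen : ∀ h ∈ axis u, ∃ k ∈ Subgroup.centralizer (Subgroup.zpowers u : Set G), ∃ d ∈ D, h = k * d := by
    intro h hh
    rcases hh with e | e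
    · refine ⟨h, ?_, 1, one_mem _, (mul_one h).symm⟩
      rw [centralizer_zpowers_eq, Subgroup.mem_centralizer_singleton_iff]
      exact mul_inv_eq_iff_eq_mul.mp e
    · set d : G := ((ι F.flip : D) : G) with hd
      have hdu : d * u * d⁻¹ = u⁻¹ := by
        have h' := congrArg (fun w => ((ι w : D) : G)) F.flip_h
        simpa only [map_mul, map_inv, Subgroup.coe_mul, Subgroup.coe_inv] using h'
      refine ⟨h * d⁻¹, ?_, d, (ι F.flip).2, by group⟩
      rw [centralizer_zpowers_eq, Subgroup.mem_centralizer_singleton_iff]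
      have hdu' : d⁻¹ * u = u⁻¹ * d⁻¹ := by
        have h' : d * u⁻¹ * d⁻¹ = u := by rw [show d * u⁻¹ * d⁻¹ = (d * u * d⁻¹)⁻¹ by group, hdu, inv_inv]
        conv_lhs => rw [← h']
        group
      calc h * d⁻¹ * u = h * (d⁻¹ * u) := mul_assoc _ _ _
        _ = (h * u * h⁻¹)⁻¹ * (h * d⁻¹) := by rw [hdu']; group
        _ = u * (h * d⁻¹) := by rw [e, inv_inv]
  have hctx : StabCtx 2 M (Subgroup.zpowers u) b (axis u) := by
    refine ⟨hb.1.1, hb.1.2, hQD.trans hDH, hCH, fun g hg => (mem_pairStab hP hb.1.2).mp ?_⟩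
    obtain ⟨k, hk, d, hd, rfl⟩ := hgen g hg
    exact mul_mem ((mem_pairStab hP hb.1.2).mpr
        ⟨centralizer_le_norm _ hk, stabilizesBlock_of_centralizer hM hb.1.1 hb.1.2 hk⟩)
      ((mem_pairStab hP hb.1.2).mpr ⟨hHN (hDH hd), hb.2.2.2.2.1 d hd⟩)
  obtain ⟨f, hf, hfc⟩ := hctx.exists_block hM
  have hmaxO : IsMaxOver 2 M (axis u) (Subgroup.zpowers u) b (⟨D, c⟩ : BrauerPairIdx G) := by
    refine ⟨⟨hb, hDH⟩, fun a ha => ?_⟩
    have h1 := (brauerPairOf_iff hM hB hb).mpr hmax.1
    have h2 := (brauerPairOf_iff hM hB ha.1).mp h1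
    obtain ⟨t, ht⟩ := card_pairOf_le hM hD h2
    have h3 := Subgroup.card_le_of_le ht
    rwa [Subgroup.card_map_of_injective (MulEquiv.injective _)] at h3
  have hPf : IsDefectGroup 2 M f (D.subgroupOf (axis u)) := hctx.maxOver_defect hM hf hfc hmaxO
  have hdef : blockDefect 2 f = blockDefect 2 B := by
    refine Nat.pow_right_injective le_rfl ?_
    show 2 ^ blockDefect 2 f = 2 ^ blockDefect 2 B
    rw [← card_defectGroup hM hf hPf, ← card_defectGroup hM hB hD,
      Nat.card_congr (Subgroup.subgroupOfEquivOfLe hDH).toEquiv]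
  obtain ⟨a0, ha0, hpa⟩ := hctx.exists_pre hM hf hfc
    (a := (⟨Subgroup.zpowers u, b⟩ : BrauerPairIdx G)) ⟨isNormalSubpair_self hM hb.1.1 hb.1.2, hQD.trans hDH⟩
  have hind : IsInducedBlock M (axis u) f B := by
    have hpB : IsBrauerPairOf 2 M B (Subgroup.zpowers u) b := (brauerPairOf_iff hM hB hb).mpr hmax.1
    have key : ∀ a : BrauerPairIdx G, liftIdx (axis u) a0 = a → IsBrauerPairOf 2 M B a.1 a.2 →
        Subgroup.centralizer (a.1 : Set G) ≤ axis u → axis u ≤ Subgroup.normalizer (a.1 : Set G) →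
        IsInducedBlock M (axis u) f B := by
      rintro a rfl h1 h2 h3
      exact induced_of_pairOf hM h2 h3 hpa h1
    exact key _ ha0 hpB hCH hHN
  obtain ⟨e', he'⟩ := exists_pair_of_le_defect hM hf hPf le_rfl
  obtain ⟨ψ, hψ, hψ0⟩ := exists_height_zero (p := 2) (block_nonempty hP hf)
  set ι' : A ≃* D.subgroupOf (axis u) := ι.trans (Subgroup.subgroupOfEquivOfLe hDH).symm with hι'
  have hu' : (((ι' (F.h) : D.subgroupOf (axis u)) : axis u) : G) = u := rfl
  refine ⟨⟨hM, hB, f, hind, _, hPf, e', maximal_of_defect hM hPf he', ?_, ψ, hψ, hψ0, ι'⟩, hdef, hu'⟩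
  refine nilpotent_of_axis hM hf hPf F ι' fun w => ?_
  rcases w.2 with h | h
  · refine Or.inl (Subtype.ext ?_)
    simp only [Subgroup.coe_mul, Subgroup.coe_inv, hu', h]
  · refine Or.inr (Subtype.ext ?_)
    simp only [Subgroup.coe_mul, Subgroup.coe_inv, hu', h]

end Cfsg.Agent.Char.QuatBlock
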