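import Cfsg.Agent.Lib.Char.QuatBlock.Data
import Cfsg.Agent.Lib.Char.QuatBlock.Combin
import Cfsg.Agent.Lib.Char.SubsectionRankTwo

/-!
# The shape of a block with quaternion defect group

Four characters of height zero, those seen by the vectors with height one, and the remaining ones, each of which
concentrates half of the mass of its row on the diagonal and the other half on the characters of height zero.
-/

set_option autoImplicit false
set_option linter.unusedSectionVars false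
set_option linter.style.haveILetI false

namespace Cfsg.Agent.Char.QuatBlock

open Cfsg

universe u v

variable {G : Type u} [Group G] [Fintype G]
variable {M : Ideal AlgInt} {B : Set (IrrCharacter G)} {A : Type v} [Group A] [Fintype A] {e : ℕ} {u : G}
  [Fintype (axis u)] (Q : QB M B A e u)

namespace QB

/-- The characters of height zero. -/
noncomputable def xs : Finset (IrrCharacter G) := (bset B).filter fun χ => Q.wv χ ≠ 0

open scoped Classical in
/-- The characters seen by the vectors of norm three. -/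
noncomputable def us : Finset (IrrCharacter G) :=
  (bset B).filter fun χ => Q.wv χ = 0 ∧ ∃ i, Q.uv i χ ≠ 0

open scoped Classical in
/-- The characters seen by the vectors of norm two. -/
noncomputable def os : Finset (IrrCharacter G) :=
  (bset B).filter fun χ => Q.wv χ = 0 ∧ ∃ i, Q.ov i χ ≠ 0

open scoped Classical in
/-- The other characters. -/
noncomputable def zs : Finset (IrrCharacter G) :=
  (bset B).filter fun χ => Q.wv χ = 0 ∧ (∀ i, Q.uv i χ = 0) ∧ ∀ i, Q.ov i χ = 0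

theorem mem_xs {χ : IrrCharacter G} : χ ∈ Q.xs ↔ χ ∈ B ∧ Q.wv χ ≠ 0 := by
  simp [xs, Finset.mem_filter, mem_bset]

theorem mem_us {χ : IrrCharacter G} : χ ∈ Q.us ↔ χ ∈ B ∧ Q.wv χ = 0 ∧ ∃ i, Q.uv i χ ≠ 0 := by
  simp [us, Finset.mem_filter, mem_bset]

theorem mem_os {χ : IrrCharacter G} : χ ∈ Q.os ↔ χ ∈ B ∧ Q.wv χ = 0 ∧ ∃ i, Q.ov i χ ≠ 0 := by
  simp [os, Finset.mem_filter, mem_bset]

theorem mem_zs {χ : IrrCharacter G} :
    χ ∈ Q.zs ↔ χ ∈ B ∧ Q.wv χ = 0 ∧ (∀ i, Q.uv i χ = 0) ∧ ∀ i, Q.ov i χ = 0 := by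
  simp [zs, Finset.mem_filter, mem_bset]

theorem deg_pos' (χ : IrrCharacter G) : 0 < (charDegree (χ : G → ℂ) : ℤ) := Int.natCast_pos.mpr (deg_pos χ.2)

theorem wv_shape (Q : QB M B A e u) :
    (∀ χ ∈ bset B, Q.wv χ = -1 ∨ Q.wv χ = 0 ∨ Q.wv χ = 1) ∧ Q.xs.card = 4 := by
  classical
  exact norm_four (deg := fun χ => (charDegree (χ : G → ℂ) : ℤ)) Q.grams.1 (fun χ _ => deg_pos' χ)
    (Q.deg_orth (even_wv e))

theorem xs_nonempty (Q : QB M B A e u) : Q.xs.Nonempty := Finset.card_pos.mp (by rw [Q.wv_shape.2]; omega)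

theorem odd_of_xs {χ : IrrCharacter G} (hχ : χ ∈ Q.xs) : Odd (Q.wv χ) := by
  obtain ⟨hB, hne⟩ := Q.mem_xs.mp hχ
  rcases Q.wv_shape.1 χ (mem_bset.mpr hB) with h | h | h
  · exact ⟨-1, by rw [h]; norm_num⟩
  · exact absurd h hne
  · exact ⟨0, by rw [h]; norm_num⟩

theorem exact_dg (Q : QB M B A e u) {χ : IrrCharacter G} (hχ : χ ∈ B) :
    (2 : ℤ) ^ blockHeight 2 B (χ : G → ℂ) ∣ Q.dg χ ∧ ¬ (2 : ℤ) ^ (blockHeight 2 B (χ : G → ℂ) + 1) ∣ Q.dg χ := by
  obtain ⟨x, hx⟩ := Q.xs_nonempty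
  exact (Q.dg_exact ⟨x, (Q.mem_xs.mp hx).1, Q.odd_of_xs hx⟩).2 χ hχ

theorem height_xs {χ : IrrCharacter G} (hχ : χ ∈ Q.xs) : blockHeight 2 B (χ : G → ℂ) = 0 :=
  (Q.dg_exact ⟨χ, (Q.mem_xs.mp hχ).1, Q.odd_of_xs hχ⟩).1 χ (Q.mem_xs.mp hχ).1 (Q.odd_of_xs hχ)

theorem height_ne_zero {χ : IrrCharacter G} (hχ : χ ∈ B) (hw : Q.wv χ = 0) :
    blockHeight 2 B (χ : G → ℂ) ≠ 0 := by
  intro h
  obtain ⟨-, hn⟩ := Q.exact_dg hχ
  rw [h, zero_add, pow_one] at hn
  refine hn (even_iff_two_dvd.mp (Int.not_odd_iff_even.mp ?_))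
  rw [Q.dg_odd_iff, hw]
  decide

/-- A half of the sum of the vectors which is odd gives height one. -/
theorem height_one {χ : IrrCharacter G} (hχ : χ ∈ B) (hw : Q.wv χ = 0) (he : 1 ≤ e)
    (ho : Odd (∑ i, Q.ov i χ - ∑ i, Q.uv i χ)) : blockHeight 2 B (χ : G → ℂ) = 1 := by
  obtain ⟨hd, -⟩ := Q.exact_dg hχ
  have h0 := Q.height_ne_zero hχ hw
  by_contra hne
  have h2 : (2 : ℤ) ^ 2 ∣ Q.dg χ := (pow_dvd_pow 2 (by omega)).trans hd
  obtain ⟨t, ht⟩ := h2
  rw [dg, hw, pow_succ, show (2 : ℤ) ^ e = 2 * 2 ^ (e - 1) by rw [← pow_succ', Nat.sub_add_cancel he]] at ht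
  obtain ⟨k, hk⟩ := ho
  have e2 : (2 * (∑ i, Q.ov i χ - ∑ i, Q.uv i χ)) =
      4 * (t - 2 ^ (e - 1) * (Q.cn 0 χ + Q.cn 1 χ)) := by linear_combination ht
  omega

theorem height_zs_ge {χ : IrrCharacter G} (hχ : χ ∈ Q.zs) : e + 1 ≤ blockHeight 2 B (χ : G → ℂ) := by
  obtain ⟨hB, hw, hu, ho⟩ := Q.mem_zs.mp hχ
  obtain ⟨-, hn⟩ := Q.exact_dg hB
  by_contra h
  refine hn ((pow_dvd_pow 2 (show blockHeight 2 B (χ : G → ℂ) + 1 ≤ e + 1 by omega)).trans ?_)
  rw [dg, hw, Finset.sum_eq_zero fun i _ => hu i, Finset.sum_eq_zero fun i _ => ho i]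
  simp only [sub_zero, mul_zero, add_zero]
  exact dvd_mul_right _ _

/-- The row of a character outside the four. -/
theorem row_zs {r : IrrCharacter G} (hr : r ∈ Q.zs) :
    blockHeight 2 B (r : G → ℂ) = e + 1 ∧ wI 2 B r r = 2 ^ (e + 2) ∧
      (∀ ψ ∈ Q.xs, wI 2 B r ψ = 2 ^ (e + 1) ∨ wI 2 B r ψ = -2 ^ (e + 1)) ∧
      ∀ ψ ∈ B, ψ ∉ Q.xs → ψ ≠ r → wI 2 B r ψ = 0 := by
  classical
  obtain ⟨hB, hw, -, -⟩ := Q.mem_zs.mp hr
  have hge := Q.height_zs_ge hr
  set h := blockHeight 2 B (r : G → ℂ)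
  set c := wI 2 B r r
  have hrx : r ∉ Q.xs := fun h => (Q.mem_xs.mp h).2 hw
  have hbig : ∀ ψ ∈ Q.xs, ((2 : ℤ) ^ h) ^ 2 ≤ wI 2 B r ψ ^ 2 ∧ (2 : ℤ) ^ h ∣ wI 2 B r ψ ∧ wI 2 B r ψ ≠ 0 := by
    intro ψ hψ
    have hd := wI_pow_dvd Q.hM Q.hB hB ψ
    have hne := wI_ne_zero Q.hM Q.hB hB (Q.mem_xs.mp hψ).1 (Q.height_xs hψ)
    push_cast at hd
    refine ⟨?_, hd, hne⟩
    have := Int.le_of_dvd (abs_pos.mpr hne) ((dvd_abs _ _).mpr hd)
    calc ((2 : ℤ) ^ h) ^ 2 ≤ |wI 2 B r ψ| ^ 2 := pow_le_pow_left₀ (by positivity) this 2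
      _ = wI 2 B r ψ ^ 2 := sq_abs _
  have hsum := sum_wI_sq Q.hM Q.hB hB
  rw [Q.defect] at hsum
  set T := bset B \ insert r Q.xs with hT
  have hsub : insert r Q.xs ⊆ bset B := Finset.insert_subset (mem_bset.mpr hB) (Finset.filter_subset _ _)
  rw [← Finset.sum_sdiff hsub, Finset.sum_insert hrx] at hsum
  have hX : 4 * ((2 : ℤ) ^ h) ^ 2 ≤ ∑ ψ ∈ Q.xs, wI 2 B r ψ ^ 2 := by
    have := Finset.sum_le_sum fun ψ hψ => (hbig ψ hψ).1
    rw [Finset.sum_const, Q.wv_shape.2, nsmul_eq_mul] at this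
    simpa using this
  have hT0 : 0 ≤ ∑ ψ ∈ T, wI 2 B r ψ ^ 2 := Finset.sum_nonneg fun ψ _ => sq_nonneg _
  push_cast at hsum
  have hA : ((2 : ℤ) ^ (e + 1)) ^ 2 ≤ ((2 : ℤ) ^ h) ^ 2 :=
    pow_le_pow_left₀ (by positivity) (pow_le_pow_right₀ one_le_two hge) 2
  have e3 : (2 : ℤ) ^ (e + 3) = 2 * (2 * 2 ^ (e + 1)) := by rw [pow_succ, pow_succ]; ring
  have e2 : (2 : ℤ) ^ (e + 2) = 2 * 2 ^ (e + 1) := by rw [pow_succ]; ring
  rw [e3] at hsum
  set A := (2 : ℤ) ^ (e + 1)
  have hsq : (c - 2 * A) ^ 2 + (∑ ψ ∈ Q.xs, wI 2 B r ψ ^ 2 - 4 * A ^ 2) + ∑ ψ ∈ T, wI 2 B r ψ ^ 2 = 0 := by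
    linear_combination hsum
  have z1 : (c - 2 * A) ^ 2 = 0 := by nlinarith [sq_nonneg (c - 2 * A)]
  have z2 : ∑ ψ ∈ T, wI 2 B r ψ ^ 2 = 0 := by nlinarith [sq_nonneg (c - 2 * A)]
  have z3 : ∑ ψ ∈ Q.xs, wI 2 B r ψ ^ 2 = 4 * A ^ 2 := by nlinarith [sq_nonneg (c - 2 * A)]
  have hh : h = e + 1 := by
    by_contra hne
    have h1 : (2 : ℤ) * A ≤ 2 ^ h := by
      rw [← e2]
      exact pow_le_pow_right₀ one_le_two (show e + 2 ≤ h by omega)
    have h2 : ((2 : ℤ) * A) ^ 2 ≤ ((2 : ℤ) ^ h) ^ 2 := pow_le_pow_left₀ (by positivity) h1 2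
    have hAp : 0 < A ^ 2 := by positivity
    nlinarith
  refine ⟨hh, ?_, fun ψ hψ => ?_, fun ψ hψB hψX hψr => ?_⟩
  · rw [e2]
    have := pow_eq_zero_iff (n := 2) (a := c - 2 * A) two_ne_zero |>.mp z1
    omega
  · have hall : ∀ φ ∈ Q.xs, wI 2 B r φ ^ 2 = A ^ 2 := by
      have hd : ∑ φ ∈ Q.xs, (wI 2 B r φ ^ 2 - A ^ 2) = 0 := by
        rw [Finset.sum_sub_distrib, z3, Finset.sum_const, Q.wv_shape.2, nsmul_eq_mul]
        norm_num
      intro φ hφ
      have := (Finset.sum_eq_zero_iff_of_nonneg fun φ hφ => by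
        have := (hbig φ hφ).1
        rw [hh] at this
        linarith).mp hd φ hφ
      linarith
    exact sq_eq_sq_iff_eq_or_eq_neg.mp (hall ψ hψ)
  · have := (Finset.sum_eq_zero_iff_of_nonneg fun φ _ => sq_nonneg _).mp z2 ψ
      (Finset.mem_sdiff.mpr ⟨mem_bset.mpr hψB, by simp [hψX, hψr]⟩)
    exact pow_eq_zero_iff two_ne_zero |>.mp this

/-- A vector outside the other characters is orthogonal to their rows over the four. -/
theorem row_orth {b c : ℕ} (h : Even (b + c)) {r : IrrCharacter G} (hr : r ∈ Q.zs)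
    (hzero : Q.cn b r - Q.cn c r = 0) :
    ∑ χ ∈ Q.xs, (Q.cn b χ - Q.cn c χ) * wI 2 B r χ = 0 := by
  classical
  rw [← Q.wI_orth h r]
  refine (Finset.sum_congr rfl fun χ _ => by rw [wI_symm Q.hM r χ]).trans
    (Finset.sum_subset (Finset.filter_subset _ _) fun χ hχ hn => ?_)
  rcases eq_or_ne χ r with rfl | hne
  · rw [hzero, zero_mul]
  · rw [wI_symm Q.hM χ r, (Q.row_zs hr).2.2.2 χ (mem_bset.mp hχ) hn hne, mul_zero]

theorem row_wv {r : IrrCharacter G} (hr : r ∈ Q.zs) : ∑ χ ∈ Q.xs, Q.wv χ * wI 2 B r χ = 0 :=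
  Q.row_orth (even_wv e) hr (Q.mem_zs.mp hr).2.1

theorem row_uv {r : IrrCharacter G} (hr : r ∈ Q.zs) (i : Fin (2 ^ e - 1)) :
    ∑ χ ∈ Q.xs, Q.uv i χ * wI 2 B r χ = 0 :=
  Q.row_orth (even_uv _) hr ((Q.mem_zs.mp hr).2.2.1 i)

theorem row_ov {r : IrrCharacter G} (hr : r ∈ Q.zs) (i : Fin (2 ^ e - 1)) :
    ∑ χ ∈ Q.xs, Q.ov i χ * wI 2 B r χ = 0 :=
  Q.row_orth (even_ov _) hr ((Q.mem_zs.mp hr).2.2.2 i)

theorem row_row {r r' : IrrCharacter G} (hr : r ∈ Q.zs) (hr' : r' ∈ Q.zs) (hne : r ≠ r') :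
    ∑ χ ∈ Q.xs, wI 2 B r χ * wI 2 B r' χ = 0 := by
  classical
  have hB := (Q.mem_zs.mp hr).1
  have hB' := (Q.mem_zs.mp hr').1
  have h0 : wI 2 B r r' = 0 :=
    (Q.row_zs hr).2.2.2 r' hB' (fun h => (Q.mem_xs.mp h).2 (Q.mem_zs.mp hr').2.1) hne.symm
  have h := RankTwo.sum_wI_mul Q.hM Q.hB (φ := r') hB
  rw [h0, mul_zero] at h
  rw [← h]
  refine (Finset.sum_congr rfl fun χ _ => by rw [wI_symm Q.hM χ r']).trans
    (Finset.sum_subset (Finset.filter_subset _ _) fun χ hχ hn => ?_)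
  rcases eq_or_ne χ r with rfl | hne'
  · rw [h0, mul_zero]
  · rw [(Q.row_zs hr).2.2.2 χ (mem_bset.mp hχ) hn hne', zero_mul]

/-- The sizes: either every vector finds its own characters, or the other characters are absent. -/
def Good (Q : QB M B A e u) : Prop :=
  Q.us.card = 2 ^ e - 1 ∧ (1 ≤ e → Q.os.card = 2 ^ e) ∧ (∀ i, ∀ χ ∈ Q.xs, Q.ov i χ = 0) ∧
    (1 ≤ e → ∃ P0 : Finset (IrrCharacter G), P0 ⊆ Q.xs ∧ P0.card = 2 ∧ ∀ χ ∈ Q.us, ∃ i, ∃ d : ℤ,
      (d = 1 ∨ d = -1) ∧ ∀ φ ∈ bset B, Q.uv i φ = (if φ ∈ P0 then Q.wv φ else 0) + if φ = χ then d else 0)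

/-- The exceptional shapes. -/
def Bad (Q : QB M B A e u) : Prop :=
  1 ≤ e ∧ Q.zs = ∅ ∧ Q.us.card + Q.os.card ≤ 2 * 2 ^ e - 3 ∧
    (Q.us.card < 2 ^ e - 1 ∨ ∃ i, ∃ χ ∈ Q.xs, Q.ov i χ ≠ 0)

/-- Everything read off from the vectors. -/
structure Shape (Q : QB M B A e u) : Prop where
  cover : (bset B).card = 4 + Q.us.card + Q.os.card + Q.zs.card
  disj : ∀ χ ∈ Q.us, χ ∉ Q.os
  h_one : ∀ χ ∈ B, Q.wv χ = 0 → χ ∉ Q.zs → blockHeight 2 B (χ : G → ℂ) = 1
  zs_le : Q.zs.card ≤ if e = 0 then 3 else 2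
  os_reg : ∀ a ∈ Q.os, ∀ b ∈ Q.os, ∀ r, wI 2 B r a = wI 2 B r b
  os_const : ∀ X : IrrCharacter G → ℤ, (∀ i, ∑ χ ∈ bset B, Q.ov i χ * X χ = 0) →
    ∀ a ∈ Q.os, ∀ b ∈ Q.os, X a = X b
  cases : Q.Good ∨ Q.Bad

theorem shape_zero (Q : QB M B A e u) (he : e = 0) : Q.Shape := by
  classical
  have hno : ∀ i : Fin (2 ^ e - 1), False := fun i => by
    have := i.2
    simp [he] at this
  have hu : Q.us = ∅ := Finset.eq_empty_of_forall_notMem fun χ h => by
    obtain ⟨-, -, i, -⟩ := Q.mem_us.mp h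
    exact hno i
  have ho : Q.os = ∅ := Finset.eq_empty_of_forall_notMem fun χ h => by
    obtain ⟨-, -, i, -⟩ := Q.mem_os.mp h
    exact hno i
  have hz : Q.zs = bset B \ Q.xs := by
    ext χ
    rw [Finset.mem_sdiff, Q.mem_zs, Q.mem_xs, mem_bset]
    exact ⟨fun h => ⟨h.1, fun h' => h'.2 h.2.1⟩,
      fun h => ⟨h.1, not_not.mp fun h' => h.2 ⟨h.1, h'⟩, fun i => (hno i).elim, fun i => (hno i).elim⟩⟩
  refine ⟨?_, fun χ h => absurd h (hu ▸ Finset.notMem_empty χ), fun χ hB hw hn => ?_, ?_,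
    fun a h => absurd h (ho ▸ Finset.notMem_empty a),
    fun _ _ a h => absurd h (ho ▸ Finset.notMem_empty a), Or.inl ⟨by rw [hu, he]; rfl, fun h => by omega, fun i => (hno i).elim, fun h => by omega⟩⟩
  · rw [hu, ho, hz, Finset.card_empty,
      Finset.card_sdiff_of_subset (show Q.xs ⊆ bset B from Finset.filter_subset _ _)]
    have h1 := Finset.card_le_card (Finset.filter_subset (fun χ => Q.wv χ ≠ 0) (bset B))
    have h2 : ((bset B).filter fun χ => Q.wv χ ≠ 0).card = 4 := Q.wv_shape.2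
    show _ = 4 + 0 + 0 + ((bset B).card - ((bset B).filter fun χ => Q.wv χ ≠ 0).card)
    omega
  · exact absurd (Q.mem_zs.mpr ⟨hB, hw, fun i => (hno i).elim, fun i => (hno i).elim⟩) hn
  · rw [if_pos he]
    have key : Fintype.card (Option {r // r ∈ Q.zs}) ≤ Q.xs.card :=
      orth_card_le (fun o χ => o.elim (Q.wv χ) fun r => wI 2 B r.1 χ) (fun i j hij => by
        rcases i with _ | i <;> rcases j with _ | j
        · exact absurd rfl hij
        · exact Q.row_wv j.2
        · refine Eq.trans (Finset.sum_congr rfl fun χ _ => mul_comm _ _) (Q.row_wv i.2)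
        · exact Q.row_row i.2 j.2 fun h => hij (congrArg some (Subtype.ext h))) fun i => by
        refine ne_of_gt (Finset.sum_pos (fun χ hχ => mul_self_pos.mpr ?_) Q.xs_nonempty)
        rcases i with _ | i
        · exact (Q.mem_xs.mp hχ).2
        · exact wI_ne_zero Q.hM Q.hB (Q.mem_zs.mp i.2).1 (Q.mem_xs.mp hχ).1 (Q.height_xs hχ)
    rw [Fintype.card_option, Fintype.card_coe, Q.wv_shape.2] at key
    omega

set_option maxHeartbeats 1000000 in
theorem shape_pos (Q : QB M B A e u) (he : 1 ≤ e) : Q.Shape := by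
  classical
  have hp2 : ∃ k, 2 ^ e = 2 * k ∧ 1 ≤ k := ⟨2 ^ (e - 1),
    by rw [← pow_succ', Nat.sub_add_cancel he], Nat.one_le_two_pow⟩
  obtain ⟨kp, hkp, hkp1⟩ := hp2
  set J := Fin (2 ^ e - 1)
  haveI : Nonempty J := ⟨⟨0, by omega⟩⟩
  have hJc : Fintype.card J = 2 ^ e - 1 := Fintype.card_fin _
  obtain ⟨hw1, hW⟩ := Q.wv_shape
  obtain ⟨-, hu3, huu, huw, ho2, hoo, how, hou⟩ := Q.grams
  set deg : IrrCharacter G → ℤ := fun χ => (charDegree (χ : G → ℂ) : ℤ)
  have hdeg : ∀ χ ∈ bset B, 0 < deg χ := fun χ _ => deg_pos' χ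
  obtain ⟨g0, g, ε, hε, hg0, hginj, hg, hov⟩ :=
    exists_star (deg := deg) ho2 hoo hdeg fun j => Q.deg_orth (even_ov _)
  obtain ⟨hsame, hin⟩ := star_outside (deg := deg) hw1 hW hdeg (Q.deg_orth (even_wv e)) how hε hg0 hginj hg hov
  obtain ⟨P, f, δ, hPf, huv, hsel⟩ := select_three hw1 hu3 huu huw
  have hε0 : ε ≠ 0 := by rcases hε with h | h <;> simp [h]
  have hPX : ∀ j, P j ⊆ Q.xs := fun j χ hχ =>
    Finset.mem_filter.mpr ⟨(hPf j).1 hχ, (hPf j).2.2.1 χ hχ⟩
  -- members of `us`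
  have hus : Q.us = Finset.univ.image f := by
    ext χ
    rw [Q.mem_us, Finset.mem_image]
    constructor
    · rintro ⟨hB, hw, i, hi⟩
      refine ⟨i, Finset.mem_univ _, ?_⟩
      by_contra hne
      rw [huv i χ (mem_bset.mpr hB), if_neg fun h => (hPf i).2.2.1 χ h hw, if_neg fun (h : χ = f i) => hne h.symm] at hi
      exact hi (add_zero 0)
    · rintro ⟨i, -, rfl⟩
      refine ⟨mem_bset.mp (hPf i).2.2.2.1, (hPf i).2.2.2.2.1, i, ?_⟩
      rw [huv i _ (hPf i).2.2.2.1, if_neg fun h => (hPf i).2.2.1 _ h (hPf i).2.2.2.2.1, if_pos rfl, zero_add]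
      rcases (hPf i).2.2.2.2.2 with h | h <;> simp [h]
  set Oset := insert g0 (Finset.univ.image g) with hOset
  have hOc : Oset.card = 2 ^ e := by
    rw [hOset, Finset.card_insert_of_notMem, Finset.card_image_of_injective _ hginj, Finset.card_univ, hJc]
    · omega
    · simp only [Finset.mem_image, Finset.mem_univ, true_and, not_exists]
      exact fun j h => (hg j).2 h
  have hos : Q.os = if Q.wv g0 = 0 then Oset else ∅ := by
    ext χ
    rw [Q.mem_os]
    constructor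
    · rintro ⟨hB, hw, i, hi⟩
      rw [hov i χ (mem_bset.mpr hB)] at hi
      have hor : χ = g0 ∨ χ = g i := by
        by_contra h
        push Not at h
        rw [if_neg h.1, if_neg h.2] at hi
        simp at hi
      have hw0 : Q.wv g0 = 0 := by
        rcases hor with rfl | rfl
        · exact hw
        · rwa [hsame i] at hw
      rw [if_pos hw0]
      rcases hor with rfl | rfl
      · exact Finset.mem_insert_self _ _
      · exact Finset.mem_insert_of_mem (Finset.mem_image_of_mem g (Finset.mem_univ i))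
    · intro h
      split_ifs at h with hw0
      · obtain ⟨i, hi⟩ : ∃ i, χ = g0 ∨ χ = g i := by
          rcases Finset.mem_insert.mp h with rfl | h'
          · exact ⟨Classical.arbitrary J, Or.inl rfl⟩
          · obtain ⟨i, -, rfl⟩ := Finset.mem_image.mp h'
            exact ⟨i, Or.inr rfl⟩
        have hmem : χ ∈ bset B := by
          rcases hi with rfl | rfl
          exacts [hg0, (hg i).1]
        refine ⟨mem_bset.mp hmem, ?_, i, ?_⟩
        · rcases hi with rfl | rfl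
          exacts [hw0, by rw [hsame i]; exact hw0]
        · rw [hov i χ hmem]
          rcases hi with hh | hh <;> rw [hh]
          · rw [if_pos rfl, if_neg fun (h : g0 = g i) => (hg i).2 h.symm]
            simpa using hε0
          · rw [if_neg (hg i).2, if_pos rfl]
            simpa using hε0
      · exact absurd h (Finset.notMem_empty χ)
  -- the norm three characters avoid the star
  have havoid : ∀ i j, Q.wv g0 = 0 → f j ≠ g0 ∧ f j ≠ g i := by
    intro i j hw0
    have h := hou i j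
    rw [Finset.sum_congr rfl fun χ hχ => by rw [hov i χ hχ]] at h
    simp only [mul_assoc, ← Finset.mul_sum, sub_mul, ite_mul, one_mul, zero_mul, Finset.sum_sub_distrib,
      Finset.sum_ite_eq', hg0, (hg i).1, if_true] at h
    have h' := (mul_eq_zero.mp h).resolve_left hε0
    rw [huv j g0 hg0, huv j _ (hg i).1, if_neg fun h => (hPf j).2.2.1 g0 h hw0,
      if_neg fun h => (hPf j).2.2.1 _ h ((hsame i).trans hw0), zero_add, zero_add] at h'
    have hd := (hPf j).2.2.2.2.2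
    have hne : g i ≠ g0 := (hg i).2
    constructor <;> intro hf
    · rw [if_pos hf.symm, if_neg fun (e : g i = f j) => hne (e.trans hf)] at h'
      omega
    · rw [if_pos hf.symm, if_neg fun (e : g0 = f j) => hne ((e.trans hf).symm)] at h'
      omega
  have hdisj : ∀ χ ∈ Q.us, χ ∉ Q.os := by
    intro χ hu ho
    rw [hus] at hu
    obtain ⟨j, -, rfl⟩ := Finset.mem_image.mp hu
    rw [hos] at ho
    split_ifs at ho with hw0
    · rcases Finset.mem_insert.mp ho with h | h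
      · exact (havoid (Classical.arbitrary J) j hw0).1 h
      · obtain ⟨i, -, hi⟩ := Finset.mem_image.mp h
        exact (havoid i j hw0).2 hi.symm
    · exact absurd ho (Finset.notMem_empty _)
  have hcover : (bset B).card = 4 + Q.us.card + Q.os.card + Q.zs.card := by
    have e1 : bset B = (Q.xs ∪ Q.us) ∪ Q.os ∪ Q.zs := by
      ext χ
      simp only [Finset.mem_union, Q.mem_xs, Q.mem_us, Q.mem_os, Q.mem_zs, mem_bset]
      constructor
      · intro hB
        by_cases hw : Q.wv χ = 0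
        · by_cases h1 : ∃ i, Q.uv i χ ≠ 0
          · exact Or.inl (Or.inl (Or.inr ⟨hB, hw, h1⟩))
          · by_cases h2 : ∃ i, Q.ov i χ ≠ 0
            · exact Or.inl (Or.inr ⟨hB, hw, h2⟩)
            · push Not at h1 h2
              exact Or.inr ⟨hB, hw, h1, h2⟩
        · exact Or.inl (Or.inl (Or.inl ⟨hB, hw⟩))
      · rintro (((h | h) | h) | h) <;> exact h.1
    rw [e1, Finset.card_union_of_disjoint, Finset.card_union_of_disjoint, Finset.card_union_of_disjoint, hW]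
    · rw [Finset.disjoint_left]
      exact fun χ h h' => (Q.mem_xs.mp h).2 (Q.mem_us.mp h').2.1
    · rw [Finset.disjoint_left]
      intro χ h h'
      rcases Finset.mem_union.mp h with h | h
      · exact (Q.mem_xs.mp h).2 (Q.mem_os.mp h').2.1
      · exact hdisj χ h h'
    · rw [Finset.disjoint_left]
      intro χ h h'
      obtain ⟨-, hw, hu, ho⟩ := Q.mem_zs.mp h'
      rcases Finset.mem_union.mp h with h | h
      · rcases Finset.mem_union.mp h with h | h
        · exact (Q.mem_xs.mp h).2 hw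
        · obtain ⟨-, -, i, hi⟩ := Q.mem_us.mp h
          exact hi (hu i)
      · obtain ⟨-, -, i, hi⟩ := Q.mem_os.mp h
        exact hi (ho i)
  -- parities of the sums
  have hpodd : Odd (2 ^ e - 1) := ⟨kp - 1, by omega⟩
  have hh1 : ∀ χ ∈ B, Q.wv χ = 0 → χ ∉ Q.zs → blockHeight 2 B (χ : G → ℂ) = 1 := by
    intro χ hB hw hnz
    refine Q.height_one hB hw he ?_
    have hm := mem_bset.mpr hB
    have hPn : ∀ i, χ ∉ P i := fun i h => (hPf i).2.2.1 χ h hw
    by_cases hu : χ ∈ Q.us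
    · have ho0 : ∀ i, Q.ov i χ = 0 := fun i => by
        by_contra hne
        exact hdisj χ hu (Q.mem_os.mpr ⟨hB, hw, i, hne⟩)
      rw [Finset.sum_eq_zero fun i _ => ho0 i, zero_sub, odd_neg]
      rw [hus] at hu
      obtain ⟨j, -, rfl⟩ := Finset.mem_image.mp hu
      rcases hsel with ⟨hinj, -⟩ | hex
      · rw [Finset.sum_eq_single j]
        · rw [huv j _ hm, if_neg (hPn j), if_pos rfl, zero_add]
          rcases (hPf j).2.2.2.2.2 with h | h <;> rw [h] <;> decide
        · intro i _ hne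
          rw [huv i _ hm, if_neg (hPn i), if_neg fun h => hne (hinj h).symm, add_zero]
        · exact fun h => absurd (Finset.mem_univ _) h
      · have hall : ∀ i, Q.uv i (f j) = δ j := fun i => by
          rcases eq_or_ne i j with rfl | hne
          · rw [huv i _ hm, if_neg (hPn i), if_pos rfl, zero_add]
          · obtain ⟨h1, h2, -⟩ := hex i j hne
            rw [huv i _ hm, if_neg (hPn i), if_pos h1.symm, zero_add, h2]
        rw [Finset.sum_congr rfl fun i _ => hall i, Finset.sum_const, Finset.card_univ, hJc, nsmul_eq_mul]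
        refine Int.odd_mul.mpr ⟨(Int.odd_coe_nat _).mpr hpodd, ?_⟩
        rcases (hPf j).2.2.2.2.2 with h | h <;> rw [h] <;> decide
    · have hu0 : ∀ i, Q.uv i χ = 0 := fun i => by
        by_contra hne
        exact hu (Q.mem_us.mpr ⟨hB, hw, i, hne⟩)
      rw [Finset.sum_eq_zero (f := fun i => Q.uv i χ) fun i _ => hu0 i, sub_zero]
      obtain ⟨i0, hi0⟩ : ∃ i, Q.ov i χ ≠ 0 := by
        by_contra h
        push Not at h
        exact hnz (Q.mem_zs.mpr ⟨hB, hw, hu0, h⟩)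
      have hmem : χ ∈ Q.os := Q.mem_os.mpr ⟨hB, hw, i0, hi0⟩
      rw [hos] at hmem
      split_ifs at hmem with hw0
      · rcases Finset.mem_insert.mp hmem with rfl | h
        · rw [Finset.sum_congr rfl (g := fun _ => ε) fun i _ => by
            rw [hov i _ hm, if_pos rfl, if_neg fun h => (hg i).2 (Eq.symm h), sub_zero, mul_one],
            Finset.sum_const, Finset.card_univ, hJc, nsmul_eq_mul]
          refine Int.odd_mul.mpr ⟨(Int.odd_coe_nat _).mpr hpodd, ?_⟩
          rcases hε with h | h <;> rw [h] <;> decide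
        · obtain ⟨j, -, rfl⟩ := Finset.mem_image.mp h
          rw [Finset.sum_eq_single j]
          · rw [hov j _ hm, if_neg (hg j).2, if_pos rfl]
            rcases hε with h | h <;> rw [h] <;> decide
          · intro i _ hne
            rw [hov i _ hm, if_neg (hg j).2, if_neg fun (h : g j = g i) => hne (hginj h).symm, sub_zero, mul_zero]
          · exact fun h => absurd (Finset.mem_univ _) h
      · exact absurd hmem (Finset.notMem_empty _)
  have hconst : ∀ X : IrrCharacter G → ℤ, (∀ i, ∑ χ ∈ bset B, Q.ov i χ * X χ = 0) →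
      ∀ a ∈ Q.os, ∀ b ∈ Q.os, X a = X b := by
    intro X hX
    have heq : ∀ i, X (g i) = X g0 := fun i => by
      have h := hX i
      rw [Finset.sum_congr rfl fun χ hχ => by rw [hov i χ hχ]] at h
      simp only [mul_assoc, ← Finset.mul_sum, sub_mul, ite_mul, one_mul, zero_mul, Finset.sum_sub_distrib,
        Finset.sum_ite_eq', hg0, (hg i).1, if_true] at h
      have h' := (mul_eq_zero.mp h).resolve_left hε0
      omega
    have hall : ∀ a ∈ Q.os, X a = X g0 := fun a ha => by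
      rw [hos] at ha
      split_ifs at ha with hw0
      · rcases Finset.mem_insert.mp ha with rfl | h
        · rfl
        · obtain ⟨i, -, rfl⟩ := Finset.mem_image.mp h
          exact heq i
      · exact absurd ha (Finset.notMem_empty _)
    exact fun a ha b hb => (hall a ha).trans (hall b hb).symm
  have hreg : ∀ a ∈ Q.os, ∀ b ∈ Q.os, ∀ r, wI 2 B r a = wI 2 B r b := fun a ha b hb r => by
    rw [wI_symm Q.hM r a, wI_symm Q.hM r b]
    exact hconst (fun χ => wI 2 B χ r) (fun i => Q.wI_orth (even_ov _) r) a ha b hb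
  -- the signs of the rows
  set F : IrrCharacter G → IrrCharacter G → ℤ := fun r χ => Q.wv χ * wI 2 B r χ with hF
  have hFt : ∀ r ∈ Q.zs, ∀ χ ∈ Q.xs, F r χ = 2 ^ (e + 1) ∨ F r χ = -2 ^ (e + 1) := by
    intro r hr χ hχ
    rcases hw1 χ (mem_bset.mpr (Q.mem_xs.mp hχ).1) with h | h | h
    · rcases (Q.row_zs hr).2.2.1 χ hχ with h' | h' <;> simp [hF, h, h']
    · exact absurd h (Q.mem_xs.mp hχ).2
    · rcases (Q.row_zs hr).2.2.1 χ hχ with h' | h' <;> simp [hF, h, h']
  have hFP : ∀ r ∈ Q.zs, ∀ j, ∑ χ ∈ P j, F r χ = 0 := by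
    intro r hr j
    rw [← Q.row_uv hr j]
    refine (Finset.sum_subset_zero_on_sdiff (hPX j) (fun χ hχ => ?_) fun χ hχ => ?_)
    · obtain ⟨hX, hnP⟩ := Finset.mem_sdiff.mp hχ
      have hne : χ ≠ f j := fun h => (Q.mem_xs.mp hX).2 (h ▸ (hPf j).2.2.2.2.1)
      rw [huv j χ (mem_bset.mpr (Q.mem_xs.mp hX).1), if_neg hnP, if_neg hne]
      simp
    · have hne : χ ≠ f j := fun h => (hPf j).2.2.1 χ hχ (h ▸ (hPf j).2.2.2.2.1)
      rw [huv j χ ((hPf j).1 hχ), if_pos hχ, if_neg hne, add_zero]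
  by_cases hw0 : Q.wv g0 = 0
  · have hosc : Q.os.card = 2 ^ e := by rw [hos, if_pos hw0, hOc]
    have hno : ∀ i, ∀ χ ∈ Q.xs, Q.ov i χ = 0 := fun i χ hχ => by
      obtain ⟨hB, hne⟩ := Q.mem_xs.mp hχ
      rw [hov i χ (mem_bset.mpr hB), if_neg fun (h : χ = g0) => hne (by rw [h]; exact hw0),
        if_neg fun (h : χ = g i) => hne (by rw [h]; exact (hsame i).trans hw0), sub_zero, mul_zero]
    rcases em (Function.Injective f ∧ ∀ i j, P i = P j) with ⟨hinj, hPeq⟩ | hns
    · have husc : Q.us.card = 2 ^ e - 1 := by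
        rw [hus, Finset.card_image_of_injective _ hinj, Finset.card_univ, hJc]
      refine ⟨hcover, hdisj, hh1, ?_, hreg, hconst, Or.inl ⟨husc, fun _ => hosc, hno, fun _ =>
        ⟨P (Classical.arbitrary J), hPX _, (hPf _).2.1, fun χ hχ => ?_⟩⟩⟩
      swap
      · rw [hus] at hχ
        obtain ⟨j, -, rfl⟩ := Finset.mem_image.mp hχ
        exact ⟨j, δ j, (hPf j).2.2.2.2.2, fun φ hφ => by rw [huv j φ hφ, hPeq j (Classical.arbitrary J)]⟩
      rw [if_neg (by omega)]
      set P0 := P (Classical.arbitrary J) with hP0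
      have hP0X : P0 ⊆ Q.xs := hPX _
      let w1 : Bool → IrrCharacter G → ℤ := fun b χ =>
        if b then (if χ ∈ P0 then Q.wv χ else 0) else (if χ ∈ P0 then 0 else Q.wv χ)
      have hboth : ∀ r ∈ Q.zs, ∀ b, ∑ χ ∈ Q.xs, w1 b χ * wI 2 B r χ = 0 := by
        intro r hr b
        have h1 : ∑ χ ∈ Q.xs, w1 true χ * wI 2 B r χ = 0 := by
          rw [← hFP r hr (Classical.arbitrary J)]
          refine (Finset.sum_subset_zero_on_sdiff hP0X (fun χ hχ => ?_) fun χ hχ => ?_).symm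
          · simp [w1, (Finset.mem_sdiff.mp hχ).2]
          · simp [w1, hχ, hF]
        cases b
        · have h2 := Q.row_wv hr
          rw [Finset.sum_congr rfl (g := fun χ => w1 true χ * wI 2 B r χ + w1 false χ * wI 2 B r χ) fun χ _ => by
            by_cases h : χ ∈ P0 <;> simp [w1, h], Finset.sum_add_distrib, h1, zero_add] at h2
          exact h2
        · exact h1
      have key : Fintype.card ({r // r ∈ Q.zs} ⊕ Bool) ≤ Q.xs.card :=
        orth_card_le (fun o χ => o.elim (fun r => wI 2 B r.1 χ) fun b => w1 b χ) (fun i j hij => by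
          rcases i with i | i <;> rcases j with j | j
          · exact Q.row_row i.2 j.2 fun h => hij (congrArg Sum.inl (Subtype.ext h))
          · exact Eq.trans (Finset.sum_congr rfl fun χ _ => mul_comm _ _) (hboth i.1 i.2 j)
          · exact hboth j.1 j.2 i
          · refine Finset.sum_eq_zero fun χ _ => ?_
            cases i <;> cases j <;> first | exact absurd rfl hij | (by_cases h : χ ∈ P0 <;> simp [w1, h])) fun i => by
          rcases i with i | b
          · exact ne_of_gt (Finset.sum_pos (fun χ hχ => mul_self_pos.mpr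
              (wI_ne_zero Q.hM Q.hB (Q.mem_zs.mp i.2).1 (Q.mem_xs.mp hχ).1 (Q.height_xs hχ))) Q.xs_nonempty)
          · obtain ⟨x, hx, hx1⟩ : ∃ x ∈ Q.xs, w1 b x ≠ 0 := by
              cases b
              · obtain ⟨x, hx, hxn⟩ := Finset.exists_mem_notMem_of_card_lt_card
                  (s := P0) (t := Q.xs) (by rw [hW, hP0, (hPf _).2.1]; omega)
                exact ⟨x, hx, by simpa [w1, hxn] using (Q.mem_xs.mp hx).2⟩
              · obtain ⟨x, hx⟩ : P0.Nonempty := Finset.card_pos.mp (by rw [hP0, (hPf _).2.1]; omega)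
                exact ⟨x, hP0X hx, by simpa [w1, hx] using (Q.mem_xs.mp (hP0X hx)).2⟩
            exact ne_of_gt (Finset.sum_pos' (fun χ _ => mul_self_nonneg _) ⟨x, hx, mul_self_pos.mpr hx1⟩)
      rw [Fintype.card_sum, Fintype.card_coe, Fintype.card_bool, hW] at key
      omega
    · have hex := hsel.resolve_left hns
      have h3 : 3 ≤ 2 ^ e - 1 := by
        by_contra hlt
        haveI : Subsingleton J := Fintype.card_le_one_iff_subsingleton.mp (by omega)
        exact hns ⟨Function.injective_of_subsingleton f, fun i j => by rw [Subsingleton.elim i j]⟩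
      have hzs : Q.zs = ∅ := Finset.eq_empty_of_forall_notMem fun r hr => by
        have hne : ∀ a b : Fin (2 ^ e - 1), (a : ℕ) ≠ b → (P a ∩ P b).card = 1 := fun a b h =>
          (hex a b fun hab => h (congrArg Fin.val hab)).2.2
        refine no_signs_exotic (f := F r) (t := 2 ^ (e + 1)) hW (hFt r hr) (pow_ne_zero _ two_ne_zero)
          (Q.row_wv hr) (P := P) (i := ⟨0, by omega⟩) (j := ⟨1, by omega⟩) (k := ⟨2, by omega⟩)
          (fun l => ⟨hPX l, (hPf l).2.1, hFP r hr l⟩) (hne _ _ (by simp)) (hne _ _ (by simp)) (hne _ _ (by simp))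
      have husc : Q.us.card = 1 := by
        rw [hus, Finset.card_eq_one]
        refine ⟨f ⟨0, by omega⟩, Finset.eq_singleton_iff_unique_mem.mpr
          ⟨Finset.mem_image_of_mem f (Finset.mem_univ _), fun χ hχ => ?_⟩⟩
        obtain ⟨i, -, rfl⟩ := Finset.mem_image.mp hχ
        rcases eq_or_ne i ⟨0, by omega⟩ with h | h
        · rw [h]
        · exact (hex i _ h).1
      refine ⟨hcover, hdisj, hh1, ?_, hreg, hconst, Or.inr ⟨he, hzs, by omega, Or.inl (by omega)⟩⟩
      rw [hzs, Finset.card_empty]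
      exact Nat.zero_le _
  · have hJ1 : 2 ^ e - 1 = 1 := by
      have := hin hw0
      rw [Fintype.card_fin] at this
      omega
    haveI : Subsingleton J := Fintype.card_le_one_iff_subsingleton.mp (by omega)
    set i0 : J := Classical.arbitrary J
    have hg0X : g0 ∈ Q.xs := Q.mem_xs.mpr ⟨mem_bset.mp hg0, hw0⟩
    have hgX : g i0 ∈ Q.xs := Q.mem_xs.mpr ⟨mem_bset.mp (hg i0).1, by rw [hsame]; exact hw0⟩
    have hboth : g0 ∈ P i0 ↔ g i0 ∈ P i0 := by
      have h := hou i0 i0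
      rw [Finset.sum_congr rfl fun χ hχ => by rw [hov i0 χ hχ]] at h
      simp only [mul_assoc, ← Finset.mul_sum, sub_mul, ite_mul, one_mul, zero_mul, Finset.sum_sub_distrib,
        Finset.sum_ite_eq', hg0, (hg i0).1, if_true] at h
      have h' := (mul_eq_zero.mp h).resolve_left hε0
      have hf0 : ∀ x ∈ Q.xs, x ≠ f i0 := fun x hx e => (Q.mem_xs.mp hx).2 (e ▸ (hPf i0).2.2.2.2.1)
      rw [huv i0 g0 hg0, huv i0 _ (hg i0).1, if_neg (hf0 _ hg0X), if_neg (hf0 _ hgX), add_zero, add_zero,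
        hsame] at h'
      constructor <;> intro hm <;> by_contra hn
      · rw [if_pos hm, if_neg hn] at h'
        omega
      · rw [if_neg hn, if_pos hm] at h'
        omega
    have hzs : Q.zs = ∅ := Finset.eq_empty_of_forall_notMem fun r hr => by
      have heq : wI 2 B r (g i0) = wI 2 B r g0 := by
        have h := Q.row_ov hr i0
        rw [Finset.sum_congr rfl fun χ hχ => by rw [hov i0 χ (mem_bset.mpr (Q.mem_xs.mp hχ).1)]] at h
        simp only [mul_assoc, ← Finset.mul_sum, sub_mul, ite_mul, one_mul, zero_mul, Finset.sum_sub_distrib,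
          Finset.sum_ite_eq', hg0X, hgX, if_true] at h
        have := (mul_eq_zero.mp h).resolve_left hε0
        omega
      refine no_signs_inside (f := F r) (t := 2 ^ (e + 1)) hW hg0X hgX (hg i0).2 (hFt r hr)
        (pow_ne_zero _ two_ne_zero) (Q.row_wv hr) ?_ (hPX i0) (hPf i0).2.1 (hFP r hr i0) hboth
      simp only [hF, hsame, heq]
    have hosc : Q.os.card = 0 := by rw [hos, if_neg hw0, Finset.card_empty]
    have husc : Q.us.card ≤ 1 := by
      rw [hus]
      exact Finset.card_image_le.trans (by rw [Finset.card_univ, Fintype.card_fin]; omega)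
    refine ⟨hcover, hdisj, hh1, ?_, hreg, hconst, Or.inr ⟨he, hzs, by omega, Or.inr ⟨i0, g0, hg0X, ?_⟩⟩⟩
    · rw [hzs, Finset.card_empty]
      exact Nat.zero_le _
    · rw [hov i0 g0 hg0, if_pos rfl, if_neg fun (h : g0 = g i0) => (hg i0).2 h.symm]
      simpa using hε0

theorem shape (Q : QB M B A e u) : Q.Shape := by
  rcases Nat.eq_zero_or_pos e with h | h
  · exact Q.shape_zero h
  · exact Q.shape_pos h

end QB

end Cfsg.Agent.Char.QuatBlock
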