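import Cfsg.Agent.Lib.Char.QuatBlock.Central
import Cfsg.Agent.Lib.Char.QuatBlock.Characters
import Cfsg.Agent.Lib.Char.NormalChainCount

/-!
# Characters minus rank of a block with quaternion defect group

Every subsection has the involution of the defect group in its section, so characters minus rank is seen in the
centralizer of the involution.
-/

set_option autoImplicit false
set_option linter.unusedSectionVars false
set_option linter.style.haveILetI false

namespace Cfsg.Agent.Char.QuatBlock

open Cfsg QuaternionGroup Relation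

universe u v

variable {G : Type u} [Group G]

/-- The involution in the cyclic group of an element of even order. -/
noncomputable def invPart (w : G) : G := w ^ (orderOf w / 2)

theorem invPart_conj (g w : G) : invPart (g * w * g⁻¹) = g * invPart w * g⁻¹ := by
  rw [invPart, invPart, show orderOf (g * w * g⁻¹) = orderOf w from MulEquiv.orderOf_eq (MulAut.conj g) w, conj_pow]

theorem orderOf_invPart [Finite G] {w : G} (h1 : w ≠ 1) (h2 : ∃ k : ℕ, orderOf w = 2 ^ k) :
    orderOf (invPart w) = 2 := by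
  obtain ⟨k, hk⟩ := h2
  refine orderOf_pow_orderOf_div (orderOf_pos w).ne' ?_
  rcases k with _ | k
  · exact absurd (orderOf_eq_one_iff.mp hk) h1
  · rw [hk, pow_succ]; exact dvd_mul_left _ _

theorem centralizer_le_invPart (w : G) :
    Subgroup.centralizer ({w} : Set G) ≤ Subgroup.centralizer ({invPart w} : Set G) := fun g hg => by
  rw [Subgroup.mem_centralizer_singleton_iff] at hg ⊢
  exact (Commute.pow_right (hg : Commute g w) _).eq

variable [Fintype G] {M : Ideal AlgInt} {B : Set (IrrCharacter G)}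

open scoped Classical in
theorem centralizer_gap (hM : IsPModular 2 M) (hB : IsPBlock M B) {D : Subgroup G} (hD : IsDefectGroup 2 M B D)
    {A : Type v} [Group A] [Fintype A] {e : ℕ} (F : AxisFamily A e) (ι : A ≃* D) {z : G} (hz2 : orderOf z = 2)
    {f : Set (IrrCharacter (Subgroup.centralizer ({z} : Set G)))}
    (hind : IsInducedBlock M (Subgroup.centralizer ({z} : Set G)) f B) (hdef : blockDefect 2 f = blockDefect 2 B) :
    (Nat.card f : ℤ) = blockRank 2 f + 2 ^ (e + 1) + 2 := by
  haveI := Fintype.ofFinite (Subgroup.centralizer ({z} : Set G))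
  have hf := hind.1
  obtain ⟨P, hP⟩ := exists_isDefectGroup hM hf
  obtain ⟨E, hE, hle⟩ := induced_defect_le hM hind hP
  have hcard : P.map (Subgroup.centralizer ({z} : Set G)).subtype = E := by
    refine Subgroup.eq_of_le_of_card_ge hle (le_of_eq ?_)
    rw [Subgroup.card_map_of_injective (Subgroup.subtype_injective _), card_defectGroup hM hB hE,
      card_defectGroup hM hf hP, hdef]
  obtain ⟨t, ht⟩ := defect_groups_conj hM hB hD hE
  let ι' : A ≃* P :=
    ((ι.trans (D.equivMapOfInjective _ (MulEquiv.injective (MulAut.conj t)))).trans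
      (MulEquiv.subgroupCongr (hcard.trans ht).symm)).trans
      (P.equivMapOfInjective _ (Subgroup.subtype_injective _)).symm
  refine central_gap hM hf hP F ι' (z := ⟨z, Subgroup.mem_centralizer_singleton_iff.mpr rfl⟩) ?_ fun c => ?_
  · rw [Subgroup.orderOf_mk, hz2]
  · exact Subtype.ext (Subgroup.mem_centralizer_singleton_iff.mp c.2).symm

open scoped Classical in
set_option maxHeartbeats 1000000 in
/-- Characters minus rank. -/
theorem gap (hM : IsPModular 2 M) (hB : IsPBlock M B) {D : Subgroup G} (hD : IsDefectGroup 2 M B D)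
    {e : ℕ} (ι : QuaternionGroup (2 ^ (e + 1)) ≃* D) : (Nat.card B : ℤ) = blockRank 2 B + 2 ^ (e + 1) + 2 := by
  haveI := Fact.mk Nat.prime_two
  have hP := pmod_prime hM
  set zD : D := ι (a ((2 ^ (e + 1) : ℕ) : ZMod (2 * 2 ^ (e + 1)))) with hzDd
  set z : G := (zD : G) with hzd
  have hm0 : a ((2 ^ (e + 1) : ℕ) : ZMod (2 * 2 ^ (e + 1))) ≠ (1 : QuaternionGroup (2 ^ (e + 1))) := by
    rw [QuaternionGroup.one_def, Ne, a.injEq]
    exact natCast_m_ne
  have hz2 : orderOf z = 2 := by
    rw [hzd, Subgroup.orderOf_coe, hzDd, MulEquiv.orderOf_eq]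
    refine orderOf_eq_prime ?_ hm0
    rw [sq, a_mul_a, QuaternionGroup.one_def, ← Nat.cast_add, ← two_mul, ZMod.natCast_self]
  have huniqD : ∀ w ∈ D, orderOf w = 2 → w = z := by
    intro w hw h2
    have h3 : ι.symm ⟨w, hw⟩ = a ((2 ^ (e + 1) : ℕ) : ZMod (2 * 2 ^ (e + 1))) :=
      involution_eq (by rw [MulEquiv.orderOf_eq, Subgroup.orderOf_mk, h2])
    rw [hzd, hzDd, ← h3, MulEquiv.apply_symm_apply]
  have hzDc : ∀ d ∈ D, d * z = z * d := fun d hd => by
    have h := huniqD (d * z * d⁻¹) (mul_mem (mul_mem hd zD.2) (inv_mem hd))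
      (by rw [show d * z * d⁻¹ = MulAut.conj d z from rfl, MulEquiv.orderOf_eq, hz2])
    exact mul_inv_eq_iff_eq_mul.mp h
  obtain ⟨em, hem⟩ := exists_pair_of_le_defect hM hB hD le_rfl
  have hmax := maximal_of_defect hM hD hem
  obtain ⟨f0, hf0n, -, hind0, hdef0⟩ := CentralPairs.exists_below hM hmax zD.2 hzDc
  set C := Subgroup.centralizer ({z} : Set G) with hC
  obtain ⟨f, hf, hfd, hfc, hfi⟩ := CentralPairs.exists_same (B := B) (p := 2) (K' := C) (Star.centralizer_zp z) f0 hind0.1
  have hind : IsInducedBlock M C f B := hfi hind0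
  have hzp : IsPGroup 2 (Subgroup.zpowers z) := IsPGroup.of_card (n := 1) (by rw [Nat.card_zpowers, hz2, pow_one])
  haveI := Fintype.ofFinite C
  -- the block over the centralizer is unique
  have huniq : ∀ β : Set (IrrCharacter C), IsInducedBlock M C β B → β = f := by
    intro β hβ
    obtain ⟨f1, hf1, -, hf1c, hf1i⟩ := CentralPairs.exists_same (B := B) (p := 2) (Star.centralizer_zp z).symm β hβ.1
    have h1 : IsInducedBlock M (Subgroup.centralizer (Subgroup.zpowers z : Set G)) f1 B := hf1i hβ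
    obtain ⟨g, hg⟩ := pairs_conj_into_maximal hM hmax (SubsectionOrbits.pair_of_induced hM hzp h1)
    have hgz : g * z * g⁻¹ = z := huniqD _ (subpair_le hg ⟨z, Subgroup.mem_zpowers z, rfl⟩)
      (by rw [show g * z * g⁻¹ = MulAut.conj g z from rfl, MulEquiv.orderOf_eq, hz2])
    have hgC : g ∈ Subgroup.centralizer (Subgroup.zpowers z : Set G) := by
      rw [Star.centralizer_zp, Subgroup.mem_centralizer_singleton_iff]
      exact mul_inv_eq_iff_eq_mul.mp hgz
    have hself : conjIdx g (⟨Subgroup.zpowers z, f1⟩ : BrauerPairIdx G) = ⟨Subgroup.zpowers z, f1⟩ :=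
      (conjIdx_eq_self_iff hP hf1 g).mpr
        ⟨centralizer_le_norm _ hgC, stabilizesBlock_of_centralizer hM hzp hf1 hgC⟩
    have hg' : Relation.ReflTransGen (NormalSubpairRel 2 M)
        (conjIdx g (⟨Subgroup.zpowers z, f1⟩ : BrauerPairIdx G)) (⟨D, em⟩ : BrauerPairIdx G) := hg
    rw [hself] at hg'
    have he : f1 = f0 := (existsUnique_subpair hM hmax.1.1 (Subgroup.zpowers_le.mpr zD.2)).unique
      ⟨hf1, hg'⟩ ⟨hind0.1, Relation.ReflTransGen.single hf0n⟩
    have hco : subgroupBlockCoeff C β = subgroupBlockCoeff C f := by rw [← hf1c, he, hfc]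
    refine blockCoeff_inj hP hβ.1 hf (funext fun c => ?_)
    have h2 := congrFun hco c
    rwa [subgroupBlockCoeff_eq, subgroupBlockCoeff_eq, extendByZero_mem _ _ c.2, extendByZero_mem _ _ c.2] at h2
  -- the weights outside the sections of the involution vanish
  have hzero : ∀ Qs K : Subgroup G, IsPGroup 2 Qs → K = Subgroup.centralizer (Qs : Set G) →
      (∀ g : G, ¬ ∀ x ∈ Qs, g * x * g⁻¹ ∈ D) → LocalRank.weight M 2 {B} K = 0 := by
    intro Qs K hQ hK hno
    unfold LocalRank.weight
    rw [Finset.sum_eq_zero, mul_zero]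
    intro γ hγ
    exfalso
    obtain ⟨β, hβ, hi⟩ := (Finset.mem_filter.1 hγ).2
    rw [Finset.mem_singleton.1 hβ] at hi
    subst hK
    obtain ⟨g, hg⟩ := pairs_conj_into_maximal hM hmax (SubsectionOrbits.pair_of_induced hM hQ hi)
    exact hno g fun x hx => subpair_le hg ⟨x, hx, rfl⟩
  set U := Finset.univ.filter fun w : G => w ≠ 1 ∧ ∃ k : ℕ, orderOf w = 2 ^ k with hU
  set Uz := U.filter fun w => invPart w = z with hUz
  set W : G → ℤ := fun w => (LocalRank.weight M 2 {B} (Subgroup.centralizer ({w} : Set G)) : ℤ) with hW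
  have hwzero : ∀ w ∈ U, ¬ IsConj z (invPart w) → W w = 0 := by
    intro w hw hn
    obtain ⟨h1, h2⟩ := (Finset.mem_filter.1 hw).2
    rw [hW]
    refine Nat.cast_eq_zero.mpr (hzero (Subgroup.zpowers w) _ (isPGroup_zpowers Nat.prime_two h2)
      centralizer_zpowers_eq.symm fun g hg => hn ?_)
    have h3 := huniqD _ (hg (invPart w) (Subgroup.pow_mem _ (Subgroup.mem_zpowers w) _))
      (by rw [show g * invPart w * g⁻¹ = MulAut.conj g (invPart w) from rfl, MulEquiv.orderOf_eq,
        orderOf_invPart h1 h2])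
    exact (isConj_iff.mpr ⟨g, h3⟩).symm
  have hGsum : ∑ w ∈ U, W w = (Nat.card {x : G // IsConj z x} : ℤ) * ∑ w ∈ Uz, W w := by
    rw [← Finset.sum_subset (Finset.filter_subset (fun w => IsConj z (invPart w)) U) (fun w hw hn =>
      hwzero w hw fun h => hn (Finset.mem_filter.mpr ⟨hw, h⟩)),
      ← Finset.sum_fiberwise_of_maps_to (t := Finset.univ.filter fun x => IsConj z x) (g := invPart)
        (fun w hw => Finset.mem_filter.mpr ⟨Finset.mem_univ _, (Finset.mem_filter.1 hw).2⟩),
      Finset.sum_congr rfl (g := fun _ => ∑ w ∈ Uz, W w), Finset.sum_const, nsmul_eq_mul, ← Fintype.card_subtype,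
      ← Nat.card_eq_fintype_card]
    intro x hx
    obtain ⟨c, hc⟩ := isConj_iff.mp (Finset.mem_filter.1 hx).2
    refine Finset.sum_bij' (fun w _ => c⁻¹ * w * c) (fun w _ => c * w * c⁻¹) ?_ ?_ ?_ ?_ ?_
    · intro w hw
      simp only [hUz, hU, Finset.mem_filter, Finset.mem_univ, true_and] at hw ⊢
      obtain ⟨⟨⟨h1, h2⟩, -⟩, h4⟩ := hw
      refine ⟨⟨fun h => h1 ?_, ?_⟩, ?_⟩
      · calc w = c * (c⁻¹ * w * c) * c⁻¹ := by group
          _ = 1 := by rw [h]; group
      · rwa [show c⁻¹ * w * c = MulAut.conj c⁻¹ w by simp, MulEquiv.orderOf_eq]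
      · have h5 := invPart_conj c⁻¹ w
        rw [inv_inv] at h5
        rw [h5, h4, ← hc]
        group
    · intro w hw
      simp only [hUz, hU, Finset.mem_filter, Finset.mem_univ, true_and] at hw ⊢
      obtain ⟨⟨h1, h2⟩, h4⟩ := hw
      refine ⟨⟨⟨fun h => h1 (conj_eq_one_iff.mp h), ?_⟩, ?_⟩, ?_⟩
      · rwa [show c * w * c⁻¹ = MulAut.conj c w from rfl, MulEquiv.orderOf_eq]
      · rw [invPart_conj, h4]
        exact isConj_iff.mpr ⟨c, rfl⟩
      · rw [invPart_conj, h4, hc]
    · intro w _; group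
    · intro w _; group
    · intro w _
      rw [hW]
      refine congrArg Nat.cast (LocalRank.weight_conj _ c⁻¹ fun y => ?_)
      rw [Subgroup.mem_centralizer_singleton_iff, Subgroup.mem_centralizer_singleton_iff]
      constructor <;> intro h
      · calc c⁻¹ * y * c⁻¹⁻¹ * (c⁻¹ * w * c) = c⁻¹ * (y * w) * c := by group
          _ = c⁻¹ * (w * y) * c := by rw [h]
          _ = _ := by group
      · calc y * w = c * ((c⁻¹ * y * c⁻¹⁻¹) * (c⁻¹ * w * c)) * c⁻¹ := by group
          _ = c * ((c⁻¹ * w * c) * (c⁻¹ * y * c⁻¹⁻¹)) * c⁻¹ := by rw [h]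
          _ = _ := by group
  have hCsum : (Nat.card C : ℤ) * ((Nat.card f : ℤ) - blockRank 2 f) = ∑ w ∈ Uz, W w := by
    have hover : NormalChains.overBlock M C B = f := by
      ext ψ
      constructor
      · rintro ⟨β, hψ, hβ⟩
        rwa [huniq β hβ] at hψ
      · exact fun h => ⟨f, h, hind⟩
    have h := NormalChains.term_eq hM B C
    rw [hover] at h
    rw [h]
    refine Eq.trans (Finset.sum_subset (s₁ := Uz) ?_ ?_).symm (Finset.sum_congr rfl fun w hw => ?_)
    · intro w hw
      simp only [hUz, hU, Finset.mem_filter, Finset.mem_univ, true_and] at hw ⊢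
      obtain ⟨h12, h3⟩ := hw
      refine ⟨h12, ?_⟩
      rw [hC, ← h3]
      exact centralizer_le_invPart w (Subgroup.mem_centralizer_singleton_iff.mpr rfl)
    · intro w hw hn
      simp only [hUz, hU, Finset.mem_filter, Finset.mem_univ, true_and] at hw hn
      obtain ⟨⟨h1, h2⟩, hwC⟩ := hw
      have hcomm : w * z = z * w := Subgroup.mem_centralizer_singleton_iff.mp hwC
      refine Nat.cast_eq_zero.mpr (hzero (Subgroup.zpowers w ⊔ Subgroup.zpowers z) _
        ((isPGroup_zpowers Nat.prime_two h2).to_sup_of_normal_right' hzp ?_) ?_ fun g hg => hn ⟨⟨h1, h2⟩, ?_⟩)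
      · refine Subgroup.zpowers_le.mpr (centralizer_le_norm _ ?_)
        rw [Star.centralizer_zp]
        exact hwC
      · ext y
        have key : ∀ S : Subgroup G, y ∈ Subgroup.centralizer (S : Set G) ↔ S ≤ Subgroup.centralizer ({y} : Set G) :=
          fun S => ⟨fun h s hs => Subgroup.mem_centralizer_singleton_iff.mpr (h s hs),
            fun h s hs => Subgroup.mem_centralizer_singleton_iff.mp (h hs)⟩
        rw [key, sup_le_iff, Subgroup.zpowers_le, Subgroup.zpowers_le, Subgroup.mem_inf, hC,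
          Subgroup.mem_centralizer_singleton_iff, Subgroup.mem_centralizer_singleton_iff,
          Subgroup.mem_centralizer_singleton_iff, Subgroup.mem_centralizer_singleton_iff]
        exact ⟨fun ⟨h, h'⟩ => ⟨h'.symm, h.symm⟩, fun ⟨h, h'⟩ => ⟨h'.symm, h.symm⟩⟩
      · have e1 := huniqD _ (hg (invPart w) (Subgroup.mem_sup_left (Subgroup.pow_mem _ (Subgroup.mem_zpowers w) _)))
          (by rw [show g * invPart w * g⁻¹ = MulAut.conj g (invPart w) from rfl, MulEquiv.orderOf_eq,
            orderOf_invPart h1 h2])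
        have e2 := huniqD _ (hg z (Subgroup.mem_sup_right (Subgroup.mem_zpowers z)))
          (by rw [show g * z * g⁻¹ = MulAut.conj g z from rfl, MulEquiv.orderOf_eq, hz2])
        exact mul_left_cancel (mul_right_cancel (e1.trans e2.symm))
    · rw [hW]
      have h3 : invPart w = z := (Finset.mem_filter.1 hw).2
      rw [inf_eq_right.mpr (hC ▸ h3 ▸ centralizer_le_invPart w)]
  have hG := LocalRank.card_sub_rank hM {B} fun β hβ => by rwa [Finset.mem_singleton.1 hβ]
  have hunion : LocalRank.unionBlocks ({B} : Finset (Set (IrrCharacter G))) = B := by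
    ext ψ
    simp [LocalRank.unionBlocks]
  rw [hunion] at hG
  have hgap := centralizer_gap hM hB hD (family e) ι hz2 hind (hfd.trans hdef0)
  have hcc : Nat.card {x : G // IsConj z x} * Nat.card C = Nat.card G := card_conjClass_mul_centralizer z
  rw [hGsum, ← hCsum, ← mul_assoc, ← Nat.cast_mul, hcc] at hG
  have h := mul_left_cancel₀ (Nat.cast_ne_zero.mpr (Nat.card_pos (α := G)).ne') hG
  linarith

end Cfsg.Agent.Char.QuatBlock
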